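import Cfsg.Agent.S2692
import Cfsg.Agent.H341.ThreeList_m3
import Cfsg.Agent.H946.ExcNum_m3
import Cfsg.Agent.ClassicalGeometry.PSUAutMain
import Cfsg.Agent.H383.Cov.PlusC
import Cfsg.Agent.LieClassical.OrthSimple
import Cfsg.Agent.LieClassical.OrthFinite
import Cfsg.Agent.H925.OrthBasic
import Cfsg.Agent.AutOrth.Main
import Cfsg.Agent.H424.Spr.Two
import Cfsg.Agent.H424.Spr.O8.Lin_m3
import Cfsg.Agent.H884.ElRows_m3
import Cfsg.Agent.H383.Cov.Inv
import Cfsg.Agent.H951.Lin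
import Cfsg.Agent.LieClassical.OrthCenter
import Cfsg.Agent.H981.Cov.Ten_m3
import Cfsg.Agent.FastGrp
import Cfsg.Agent.Prune
set_option linter.all false

section
prune_inst 0x7fffadfbbbfab9dfffbf7e77a69dcdfc3f911fffa4dffd4bbfe021df2bdf231809c523ad8de020fe1e86421410a87843fdffeeffe26bd87ffffd1ff41ffbee5ff5f7b500519488340fbc2ff683f0778e7f3fffffffffefffffffffffffffffaeffbfffffffff

-- part: H441/Wei/CentU3
section
prune_inst 0x1004440006200040000858401203c028e0004b0000b000080e201420480644000800620a8001016128a00450031002001000080424000000e000000011800a08000800090080004040001000080000000000000000000000000000000010004000000000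
set_option linter.all false
open scoped Cfsg.Agent.FastGrp

/-!
# `Aut(PSU₃(Q))` : centralisers of elements of primitive order (helper441, S3938-E7-b)

`card_cent_psu3` : `S = PSU₃(p^a)` normal in `A`, `C_A(S) = 1`, `s ∈ S` of order a primitive prime divisor of
`p^(6a) - 1` ⟹ `|C_A(s)| ∣ Q² - Q + 1`, `Q = p^a`.
-/

set_option autoImplicit false

namespace Cfsg.Agent.H441.Wei

open Cfsg Cfsg.Agent.OrdDiv Cfsg.Agent.H436

/-! ### the commutant of an element of primitive prime order -/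

section Abs

theorem fix_card {α : Type*} [Finite α] (f : α → α) {r : ℕ} (hr : r.Prime) (hf : ∀ x, f^[r] x = x) :
    Nat.card α ≡ Nat.card {x // f x = x} [MOD r] := by
  classical
  have := Fintype.ofFinite α
  have : Fact r.Prime := ⟨hr⟩
  let g : Function.End α := f
  have hg : g ^ r ^ 1 = 1 := by
    rw [pow_one]
    funext x
    have h : ∀ k : ℕ, (g ^ k) x = f^[k] x := by
      intro k
      induction k with
      | zero => rfl
      | succ k ih =>
        rw [pow_succ', Function.iterate_succ', Function.comp_apply, ← ih]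
        rfl
    rw [h, hf]
    rfl
  have h := Equiv.Perm.card_fixedPoints_modEq hg
  rw [Nat.card_eq_fintype_card, Nat.card_eq_fintype_card]
  convert h using 1
  exact Fintype.card_congr (Equiv.refl _)

variable {V : Type*} [AddCommGroup V] [Finite V] {p n r : ℕ}

omit [Finite V] in
theorem iterate_eq (s : AddMonoid.End V) (k : ℕ) (x : V) : (s ^ k) x = (⇑s)^[k] x := by
  induction k with
  | zero => rfl
  | succ k ih =>
    rw [pow_succ', Function.iterate_succ', Function.comp_apply, ← ih]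
    rfl

theorem pow_mod_one (hp : p.Prime) {m : ℕ} (h : p ^ m ≡ 1 [MOD r]) : r ∣ p ^ m - 1 :=
  (Nat.modEq_iff_dvd' (Nat.one_le_pow _ _ hp.pos)).1 h.symm

theorem fix_bot (hp : p.Prime) (hV : Nat.card V = p ^ n) (hr : r.Prime) (hd : ∀ m, r ∣ p ^ m - 1 ↔ n ∣ m)
    {s : AddMonoid.End V} (hs : s ^ r = 1) (h1 : s ≠ 1) {v : V} (hv : s v = v) : v = 0 := by
  let W : AddSubgroup V := (s - 1 : AddMonoid.End V).ker
  have hW : ∀ v, v ∈ W ↔ s v = v := by
    intro v
    change s v - v = 0 ↔ _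
    rw [sub_eq_zero]
  have hc : Nat.card V ≡ Nat.card W [MOD r] := by
    have := fix_card (⇑s) hr (fun x => by rw [← iterate_eq, hs]; rfl)
    have he : Nat.card {x // s x = x} = Nat.card W :=
      Nat.card_congr (Equiv.subtypeEquivRight fun x => (hW x).symm)
    rwa [he] at this
  obtain ⟨k, hk, hWk⟩ := (Nat.dvd_prime_pow hp).1 (hV ▸ W.card_addSubgroup_dvd_card)
  have h2 : p ^ n ≡ 1 [MOD r] := ((Nat.modEq_iff_dvd' (Nat.one_le_pow _ _ hp.pos)).2 ((hd n).2 dvd_rfl)).symm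
  have h3 : p ^ k ≡ 1 [MOD r] := by
    rw [hV, hWk] at hc
    exact hc.symm.trans h2
  have h4 : n ∣ k := (hd k).1 (pow_mod_one hp h3)
  rcases Nat.eq_zero_or_pos k with h0 | h0
  · rw [h0, pow_zero] at hWk
    have := AddSubgroup.card_eq_one.1 hWk
    have hv' := (hW v).2 hv
    rw [this] at hv'
    exact AddSubgroup.mem_bot.1 hv'
  · exfalso
    have hkn : k = n := le_antisymm hk (Nat.le_of_dvd h0 h4)
    have : W = ⊤ := AddSubgroup.eq_top_of_card_eq _ (by rw [hWk, hkn, hV])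
    apply h1
    ext v
    exact (hW v).1 (this ▸ AddSubgroup.mem_top v)

theorem inv_top (hp : p.Prime) (hV : Nat.card V = p ^ n) (hr : r.Prime) (hd : ∀ m, r ∣ p ^ m - 1 ↔ n ∣ m)
    {s : AddMonoid.End V} (hs : s ^ r = 1) (h1 : s ≠ 1) (W : AddSubgroup V) (hW : ∀ w ∈ W, s w ∈ W) :
    W = ⊥ ∨ W = ⊤ := by
  let f : W → W := fun w => ⟨s w, hW w w.2⟩
  have hf : ∀ x, f^[r] x = x := by
    intro x
    apply Subtype.ext
    have h : ∀ k : ℕ, ((f^[k] x : W) : V) = (⇑s)^[k] x := by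
      intro k
      induction k with
      | zero => rfl
      | succ k ih =>
        rw [Function.iterate_succ', Function.comp_apply, Function.iterate_succ', Function.comp_apply, ← ih]
    rw [h, ← iterate_eq, hs]
    rfl
  have hc := fix_card f hr hf
  have h0 : Nat.card {x // f x = x} = 1 := by
    rw [Nat.card_eq_one_iff_unique]
    refine ⟨⟨fun a b => ?_⟩, ⟨⟨0, ?_⟩⟩⟩
    · have ha : (a : W) = 0 := Subtype.ext (fix_bot hp hV hr hd hs h1 (congrArg Subtype.val a.2))
      have hb : (b : W) = 0 := Subtype.ext (fix_bot hp hV hr hd hs h1 (congrArg Subtype.val b.2))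
      exact Subtype.ext (ha.trans hb.symm)
    · apply Subtype.ext
      exact map_zero s
  obtain ⟨k, hk, hWk⟩ := (Nat.dvd_prime_pow hp).1 (hV ▸ W.card_addSubgroup_dvd_card)
  rw [h0, hWk] at hc
  have h4 : n ∣ k := (hd k).1 (pow_mod_one hp hc)
  rcases Nat.eq_zero_or_pos k with h0 | h0
  · left
    rw [h0, pow_zero] at hWk
    exact AddSubgroup.card_eq_one.1 hWk
  · right
    have hkn : k = n := le_antisymm hk (Nat.le_of_dvd h0 h4)
    exact AddSubgroup.eq_top_of_card_eq _ (by rw [hWk, hkn, hV])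

/-- a nonzero endomorphism commuting with `s` is injective -/
theorem inj_of_comm (hp : p.Prime) (hV : Nat.card V = p ^ n) (hr : r.Prime) (hd : ∀ m, r ∣ p ^ m - 1 ↔ n ∣ m)
    {s : AddMonoid.End V} (hs : s ^ r = 1) (h1 : s ≠ 1) {x : AddMonoid.End V} (hx : x * s = s * x) (hx0 : x ≠ 0)
    {v : V} (hv : x v = 0) : v = 0 := by
  rcases inv_top hp hV hr hd hs h1 x.ker (fun w hw => by
    change x (s w) = 0
    have : x (s w) = s (x w) := DFunLike.congr_fun hx w
    rw [this, show x w = 0 from hw, map_zero]) with h | h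
  · have : v ∈ x.ker := hv
    rw [h] at this
    exact AddSubgroup.mem_bot.1 this
  · exfalso
    apply hx0
    ext w
    have : w ∈ x.ker := h ▸ AddSubgroup.mem_top w
    exact this

/-- **the commutant of `s` is generated by `s`** -/
theorem mem_closure (hp : p.Prime) (hV : Nat.card V = p ^ n) (hr : r.Prime) (hd : ∀ m, r ∣ p ^ m - 1 ↔ n ∣ m)
    (hn : 0 < n) {s : AddMonoid.End V} (hs : s ^ r = 1) (h1 : s ≠ 1) {x : AddMonoid.End V} (hx : x * s = s * x) :
    x ∈ Subring.closure ({s} : Set (AddMonoid.End V)) := by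
  classical
  have : Finite (AddMonoid.End V) := Finite.of_injective (fun f : AddMonoid.End V => (f : V → V)) DFunLike.coe_injective
  let R := Subring.closure ({s} : Set (AddMonoid.End V))
  have hcs : ∀ y ∈ R, y * s = s * y := by
    intro y hy
    induction hy using Subring.closure_induction with
    | mem y hy => rw [Set.mem_singleton_iff.1 hy]
    | zero => rw [zero_mul, mul_zero]
    | one => rw [one_mul, mul_one]
    | add a b _ _ ha hb => rw [add_mul, mul_add, ha, hb]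
    | neg a _ ha => rw [neg_mul, mul_neg, ha]
    | mul a b _ _ ha hb => rw [mul_assoc, hb, ← mul_assoc, ha, mul_assoc]
  have hcR : ∀ y ∈ R, y * x = x * y := by
    intro y hy
    induction hy using Subring.closure_induction with
    | mem y hy => rw [Set.mem_singleton_iff.1 hy, hx]
    | zero => rw [zero_mul, mul_zero]
    | one => rw [one_mul, mul_one]
    | add a b _ _ ha hb => rw [add_mul, mul_add, ha, hb]
    | neg a _ ha => rw [neg_mul, mul_neg, ha]
    | mul a b _ _ ha hb => rw [mul_assoc, hb, ← mul_assoc, ha, mul_assoc]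
  have hVnt : Nontrivial V := by
    rw [← Finite.one_lt_card_iff_nontrivial, hV]
    exact Nat.one_lt_pow (by omega) hp.one_lt
  obtain ⟨v0, hv0⟩ := exists_ne (0 : V)
  -- evaluation at v0 is injective on R
  let ev : R →+ V := { toFun := fun y => (y : AddMonoid.End V) v0, map_zero' := rfl, map_add' := fun _ _ => rfl }
  have hev : Function.Injective ev := by
    rw [injective_iff_map_eq_zero]
    intro y hy
    by_contra hy0
    exact hv0 (inj_of_comm hp hV hr hd hs h1 (hcs y y.2) (fun h => hy0 (Subtype.ext h)) hy)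
  -- R is a finite domain
  have hnt : Nontrivial (AddMonoid.End V) := by
    refine ⟨0, 1, fun h => hv0 ?_⟩
    exact (DFunLike.congr_fun h v0).symm
  have hntR : Nontrivial R := ⟨0, 1, fun h => (zero_ne_one (congrArg Subtype.val h) : False)⟩
  have hnzd : NoZeroDivisors R := by
    refine ⟨fun {a b} hab => ?_⟩
    by_contra hcon
    rw [not_or] at hcon
    obtain ⟨ha, hb⟩ := hcon
    apply hb
    apply hev
    rw [map_zero]
    refine inj_of_comm hp hV hr hd hs h1 (hcs a a.2) (fun h => ha (Subtype.ext h)) ?_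
    have := congrArg (fun t : R => (t : AddMonoid.End V) v0) hab
    exact this
  have hdom : IsDomain R := NoZeroDivisors.to_isDomain R
  have hfR : Finite R := inferInstance
  -- `R` has order `p^m`, `n ∣ m`
  have hcard : Nat.card R ∣ p ^ n := by
    rw [← hV]
    have := Nat.card_congr (AddMonoidHom.ofInjective hev).toEquiv
    rw [this]
    exact ev.range.card_addSubgroup_dvd_card
  obtain ⟨m, hm, hRm⟩ := (Nat.dvd_prime_pow hp).1 hcard
  have hR1 : 1 < Nat.card R := Finite.one_lt_card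
  have hunits : Nat.card Rˣ = Nat.card R - 1 := by
    letI := Fintype.ofFinite R
    letI : DivisionRing R := Fintype.divisionRingOfIsDomain R
    exact Nat.card_units R
  let sR : R := ⟨s, Subring.subset_closure rfl⟩
  have hsR : sR ^ r = 1 := Subtype.ext hs
  let u : Rˣ := Units.ofPowEqOne sR r hsR hr.ne_zero
  have hou : orderOf u = r := by
    have : Fact r.Prime := ⟨hr⟩
    apply orderOf_eq_prime
    · exact Units.pow_ofPowEqOne hsR hr.ne_zero
    · intro h
      apply h1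
      have := congrArg (fun t : Rˣ => ((t : R) : AddMonoid.End V)) h
      exact this
  have hdiv : r ∣ p ^ m - 1 := by
    rw [← hRm, ← hunits, ← hou]
    exact orderOf_dvd_natCard u
  have hnm : n ∣ m := (hd m).1 hdiv
  have hm0 : 0 < m := by
    rcases Nat.eq_zero_or_pos m with h | h
    · rw [h, pow_zero] at hRm
      omega
    · exact h
  have hmn : m = n := le_antisymm hm (Nat.le_of_dvd hm0 hnm)
  have hsurj : Function.Surjective ev := by
    have : Function.Bijective ev := by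
      rw [Nat.bijective_iff_injective_and_card]
      exact ⟨hev, by rw [hRm, hmn, hV]⟩
    exact this.2
  obtain ⟨y, hy⟩ := hsurj (x v0)
  have hy' : (y : AddMonoid.End V) v0 = x v0 := hy
  have : x = y := by
    ext w
    obtain ⟨z, hz⟩ := hsurj w
    have hz' : (z : AddMonoid.End V) v0 = w := hz
    rw [← hz']
    have e1 : x ((z : AddMonoid.End V) v0) = (z : AddMonoid.End V) (x v0) := (DFunLike.congr_fun (hcR z z.2) v0).symm
    have hzy : (z : AddMonoid.End V) * (y : AddMonoid.End V) = (y : AddMonoid.End V) * (z : AddMonoid.End V) := by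
      have hcomm : ∀ a ∈ R, a * (y : AddMonoid.End V) = (y : AddMonoid.End V) * a := by
        intro a ha
        induction ha using Subring.closure_induction with
        | mem a ha => rw [Set.mem_singleton_iff.1 ha]; exact (hcs y y.2).symm
        | zero => rw [zero_mul, mul_zero]
        | one => rw [one_mul, mul_one]
        | add a b _ _ ha hb => rw [add_mul, mul_add, ha, hb]
        | neg a _ ha => rw [neg_mul, mul_neg, ha]
        | mul a b _ _ ha hb => rw [mul_assoc, hb, ← mul_assoc, ha, mul_assoc]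
      exact hcomm z z.2
    rw [e1, ← hy']
    exact DFunLike.congr_fun hzy v0
  rw [this]
  exact y.2

theorem comm_of_comm (hp : p.Prime) (hV : Nat.card V = p ^ n) (hr : r.Prime) (hd : ∀ m, r ∣ p ^ m - 1 ↔ n ∣ m)
    (hn : 0 < n) {s : AddMonoid.End V} (hs : s ^ r = 1) (h1 : s ≠ 1) {x y : AddMonoid.End V} (hx : x * s = s * x)
    (hy : y * s = s * y) : x * y = y * x := by
  have := mem_closure hp hV hr hd hn hs h1 hx
  clear hx
  induction this using Subring.closure_induction with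
  | mem a ha => rw [Set.mem_singleton_iff.1 ha]; exact hy.symm
  | zero => rw [zero_mul, mul_zero]
  | one => rw [one_mul, mul_one]
  | add a b _ _ ha hb => rw [add_mul, mul_add, ha, hb]
  | neg a _ ha => rw [neg_mul, mul_neg, ha]
  | mul a b _ _ ha hb => rw [mul_assoc, hb, ← mul_assoc, ha, mul_assoc]

/-- a group acting on `V` faithfully and commuting with `s` is cyclic -/
theorem isCyclic_of_comm (hp : p.Prime) (hV : Nat.card V = p ^ n) (hr : r.Prime)
    (hd : ∀ m, r ∣ p ^ m - 1 ↔ n ∣ m) (hn : 0 < n) {s : AddMonoid.End V} (hs : s ^ r = 1) (h1 : s ≠ 1)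
    {P : Type*} [Group P] [Finite P] (f : P →* AddMonoid.End V) (hf : Function.Injective f)
    (hc : ∀ g, f g * s = s * f g) : IsCyclic P := by
  let D : Subring (AddMonoid.End V) := Subring.centralizer {s}
  have hD : ∀ y, y ∈ D ↔ y * s = s * y := by
    intro y
    change (∀ m ∈ ({s} : Set _), m * y = y * m) ↔ _
    simp only [Set.mem_singleton_iff, forall_eq]
    exact eq_comm
  letI : CommRing D := { (inferInstance : Ring D) with
    mul_comm := fun a b => Subtype.ext (comm_of_comm hp hV hr hd hn hs h1 ((hD a).1 a.2) ((hD b).1 b.2)) }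
  have hVnt : Nontrivial V := by
    rw [← Finite.one_lt_card_iff_nontrivial, hV]
    exact Nat.one_lt_pow (by omega) hp.one_lt
  obtain ⟨v0, hv0⟩ := exists_ne (0 : V)
  have hntD : Nontrivial D := ⟨0, 1, fun h => hv0 (DFunLike.congr_fun (congrArg Subtype.val h) v0).symm⟩
  have hnzd : NoZeroDivisors D := by
    refine ⟨fun {a b} hab => ?_⟩
    by_contra hcon
    rw [not_or] at hcon
    obtain ⟨ha, hb⟩ := hcon
    apply hb
    apply Subtype.ext
    ext w
    refine inj_of_comm hp hV hr hd hs h1 ((hD a).1 a.2) (fun h => ha (Subtype.ext h)) ?_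
    exact DFunLike.congr_fun (congrArg Subtype.val hab) w
  have hdom : IsDomain D := NoZeroDivisors.to_isDomain D
  let f' : P →* D :=
    { toFun := fun g => ⟨f g, (hD _).2 (hc g)⟩
      map_one' := Subtype.ext (map_one f)
      map_mul' := fun a b => Subtype.ext (map_mul f a b) }
  exact isCyclic_of_injective_ringHom f' (fun a b h => hf (congrArg Subtype.val h))

end Abs

/-! ### the unitary group -/

section U

open Matrix Cfsg.Agent.LieClassical.HermBasic Cfsg.Agent.LieClassical.HermSiegel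
  Cfsg.Agent.LieClassical.HermGen Cfsg.Agent.LieClassical.SUBasic
  Cfsg.Agent.ClassicalGeometry.PSUAutCount Cfsg.Agent.LieClassical.FieldTransfer

variable {F : Type*} [Field F] {q n : ℕ}

/-- matrices as additive endomorphisms -/
def E (n : ℕ) (F : Type*) [Field F] : Matrix (Fin n) (Fin n) F →+* AddMonoid.End (Fin n → F) where
  toFun M := (Matrix.mulVecLin M).toAddMonoidHom
  map_one' := by
    refine AddMonoidHom.ext fun v => ?_
    exact one_mulVec v
  map_mul' A B := by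
    refine AddMonoidHom.ext fun v => ?_
    exact (mulVec_mulVec v A B).symm
  map_zero' := by
    refine AddMonoidHom.ext fun v => ?_
    exact zero_mulVec v
  map_add' A B := by
    refine AddMonoidHom.ext fun v => ?_
    exact add_mulVec A B v

theorem E_inj : Function.Injective (E n F) := by
  intro A B h
  apply Matrix.ext_of_mulVec_single
  intro i
  exact DFunLike.congr_fun h (Pi.single i 1)

variable [Fintype F]

theorem herm_adj {p k : ℕ} [CharP F p] (hp : p.Prime) (hF : Fintype.card F = q ^ 2)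
    (hqk : q ^ 3 = p ^ k) {S : Matrix (Fin n) (Fin n) F}
    (hSu : ∀ u v, hermForm n F q (S *ᵥ u) (S *ᵥ v) = hermForm n F q u v) (hS : S ^ (q ^ 3 + 1) = 1)
    {M : Matrix (Fin n) (Fin n) F} (hM : M ∈ Subring.closure ({S} : Set (Matrix (Fin n) (Fin n) F)))
    (u v : Fin n → F) : hermForm n F q (M *ᵥ u) v = hermForm n F q u ((M ^ q ^ 3) *ᵥ v) := by
  have : Fact p.Prime := ⟨hp⟩
  have hcomm : ∀ a ∈ Subring.closure ({S} : Set (Matrix (Fin n) (Fin n) F)),
      ∀ b ∈ Subring.closure ({S} : Set (Matrix (Fin n) (Fin n) F)), Commute a b := by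
    have h1 : ∀ a ∈ Subring.closure ({S} : Set (Matrix (Fin n) (Fin n) F)), Commute a S := by
      intro a ha
      induction ha using Subring.closure_induction with
      | mem y hy => rw [Set.mem_singleton_iff.1 hy]
      | zero => exact Commute.zero_left _
      | one => exact Commute.one_left _
      | add a b _ _ ha hb => exact ha.add_left hb
      | neg a _ ha => exact ha.neg_left
      | mul a b _ _ ha hb => exact ha.mul_left hb
    intro a ha b hb
    induction hb using Subring.closure_induction with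
    | mem y hy => rw [Set.mem_singleton_iff.1 hy]; exact h1 a ha
    | zero => exact Commute.zero_right _
    | one => exact Commute.one_right _
    | add x y _ _ hx hy => exact hx.add_right hy
    | neg x _ hx => exact hx.neg_right
    | mul x y _ _ hx hy => exact hx.mul_right hy
  have hn : q ^ 3 ≠ 0 := by rw [hqk]; exact pow_ne_zero _ hp.ne_zero
  have hadd : ∀ a b : Matrix (Fin n) (Fin n) F, Commute a b → (a + b) ^ q ^ 3 = a ^ q ^ 3 + b ^ q ^ 3 := by
    intro a b hab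
    rcases isEmpty_or_nonempty (Fin n) with h | h
    · exact Subsingleton.elim _ _
    · rw [hqk]
      exact add_pow_char_pow_of_commute p k hab
  induction hM using Subring.closure_induction generalizing u v with
  | mem y hy =>
    rw [Set.mem_singleton_iff.1 hy]
    have h1 : S * S ^ q ^ 3 = 1 := by rw [← pow_succ', hS]
    calc hermForm n F q (S *ᵥ u) v = hermForm n F q (S *ᵥ u) (S *ᵥ ((S ^ q ^ 3) *ᵥ v)) := by
          rw [mulVec_mulVec, h1, one_mulVec]
      _ = _ := hSu _ _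
  | zero => rw [zero_pow hn, zero_mulVec, zero_mulVec, herm_zero_left, herm_zero_right hF]
  | one => rw [one_pow, one_mulVec, one_mulVec]
  | add a b ha' hb' ha hb =>
    rw [hadd a b (hcomm a ha' b hb'), add_mulVec, add_mulVec, herm_add_left, herm_add_right hF, ha, hb]
  | neg a ha' ha =>
    have h1 : (-a) ^ q ^ 3 = -(a ^ q ^ 3) := by
      have h2 := hadd a (-a) (Commute.neg_right (Commute.refl a))
      rw [add_neg_cancel, zero_pow hn] at h2
      exact (neg_eq_of_add_eq_zero_right h2.symm).symm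
    rw [h1, neg_mulVec, neg_mulVec, herm_neg_left, herm_neg_right hF, ha]
  | mul a b ha' hb' ha hb =>
    rw [(hcomm a ha' b hb').mul_pow, ← mulVec_mulVec, ha, hb, mulVec_mulVec,
      ((hcomm a ha' b hb').pow_pow (q ^ 3) (q ^ 3)).eq]

/-- the centraliser of `s₁` in `GU` -/
def P (s₁ : SU n F q) : Subgroup (GU n F q) where
  carrier := {A | gm A * mat s₁ = mat s₁ * gm A}
  mul_mem' {a b} ha hb := by
    change gm (a * b) * mat s₁ = mat s₁ * gm (a * b)
    rw [gm_mul, Matrix.mul_assoc, (hb : gm b * mat s₁ = mat s₁ * gm b), ← Matrix.mul_assoc,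
      (ha : gm a * mat s₁ = mat s₁ * gm a), Matrix.mul_assoc]
  one_mem' := by
    change gm 1 * mat s₁ = mat s₁ * gm 1
    rw [gm_one, Matrix.one_mul, Matrix.mul_one]
  inv_mem' {a} ha := by
    change gm a⁻¹ * mat s₁ = mat s₁ * gm a⁻¹
    have ha' : gm a * mat s₁ = mat s₁ * gm a := ha
    calc gm a⁻¹ * mat s₁ = gm a⁻¹ * (mat s₁ * gm a) * gm a⁻¹ := by
          rw [Matrix.mul_assoc, Matrix.mul_assoc, gm_mul_inv, Matrix.mul_one]
      _ = _ := by rw [← ha', ← Matrix.mul_assoc, gm_inv_mul, Matrix.one_mul]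

omit [Fintype F] in
theorem toAut_mul (A B : GU n F q) :
    toAut (A * B) (RingEquiv.refl F) = toAut A (RingEquiv.refl F) * toAut B (RingEquiv.refl F) := by
  ext x
  obtain ⟨s, rfl⟩ := QuotientGroup.mk_surjective x
  rw [MulAut.mul_apply, H198.UnitGamma.mk_toAut, H198.UnitGamma.mk_toAut, H198.UnitGamma.mk_toAut]
  congr 1
  apply Subtype.ext
  apply Subtype.ext
  change mat (semiConj (A * B) (RingEquiv.refl F) s) =
    mat (semiConj A (RingEquiv.refl F) (semiConj B (RingEquiv.refl F) s))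
  rw [H198.UnitGamma.mat_semiConj, H198.UnitGamma.mat_semiConj, H198.UnitGamma.mat_semiConj, gm_mul,
    _root_.mul_inv_rev, gm_mul]
  have h (M : Matrix (Fin n) (Fin n) F) : M.map (RingEquiv.refl F) = M := rfl
  rw [h, h]
  simp only [Matrix.mul_assoc]

/-- `GU → Aut PSU` -/
def th (n : ℕ) (F : Type*) [Field F] [Fintype F] (q : ℕ) : GU n F q →* MulAut (PSU n F q) where
  toFun A := toAut A (RingEquiv.refl F)
  map_one' := by
    ext x
    obtain ⟨s, rfl⟩ := QuotientGroup.mk_surjective x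
    rw [H198.UnitGamma.mk_toAut]
    congr 1
    apply Subtype.ext
    apply Subtype.ext
    change mat (semiConj (1 : GU n F q) (RingEquiv.refl F) s) = mat s
    rw [H198.UnitGamma.mat_semiConj, inv_one, gm_one, Matrix.one_mul, Matrix.mul_one]
    rfl
  map_mul' A B := toAut_mul A B

/-- data: `s₁ ∈ SU₃(q)` of order `r` -/
structure Dat (p a r : ℕ) (s₁ : SU 3 F (p ^ a)) : Prop where
  hp : p.Prime
  ha : 1 ≤ a
  hF : Fintype.card F = (p ^ a) ^ 2
  hr : Prim p (6 * a) r
  hs : s₁ ^ r = 1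
  h1 : s₁ ≠ 1

variable {p a r : ℕ} {s₁ : SU 3 F (p ^ a)}

theorem Dat.cardV (H : Dat p a r s₁) : Nat.card (Fin 3 → F) = p ^ (6 * a) := by
  rw [Nat.card_eq_fintype_card, Fintype.card_pi_const, H.hF, ← pow_mul, ← pow_mul]
  congr 1
  omega

theorem Dat.Es (H : Dat p a r s₁) : (E 3 F (mat s₁)) ^ r = 1 := by
  have h (k : ℕ) : mat (s₁ ^ k) = mat s₁ ^ k := by
    induction k with
    | zero => rfl
    | succ k ih => rw [pow_succ, mat_mul, ih, pow_succ]
  rw [← map_pow, ← h, H.hs, mat_one, map_one]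

theorem Dat.E1 (H : Dat p a r s₁) : E 3 F (mat s₁) ≠ 1 := by
  intro h
  rw [← map_one (E 3 F)] at h
  exact H.h1 (mat_injective ((E_inj h).trans mat_one.symm))

theorem Dat.rq (H : Dat p a r s₁) : r ∣ (p ^ a) ^ 3 + 1 := by
  rw [← pow_mul]
  exact H.hr.dvd_add (m := a * 3) ⟨1, by ring⟩ (fun h => by
    have := Nat.le_of_dvd (by have := H.ha; omega) h
    have := H.ha
    omega)

theorem Dat.isCyclic (H : Dat p a r s₁) : IsCyclic (P s₁) := by
  have : Finite (GU 3 F (p ^ a)) := LieClassical.GUOrder.finite_GU 3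
  refine isCyclic_of_comm H.hp H.cardV H.hr.prime (fun m => H.hr.dvd_iff m) (by have := H.ha; omega) H.Es H.E1
    (P := P s₁) ⟨⟨fun A => E 3 F (gm A.1), ?_⟩, ?_⟩ ?_ ?_
  · change E 3 F (gm 1) = 1
    rw [gm_one, map_one]
  · intro A B
    change E 3 F (gm (A.1 * B.1)) = _
    rw [gm_mul, map_mul]
  · intro A B h
    exact Subtype.ext (gm_inj (E_inj h))
  · intro A
    change E 3 F (gm A.1) * E 3 F (mat s₁) = E 3 F (mat s₁) * E 3 F (gm A.1)
    rw [← map_mul, ← map_mul, A.2]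

/-- commuting matrices lie in the ring generated by `s₁` -/
theorem Dat.mem (H : Dat p a r s₁) {M : Matrix (Fin 3) (Fin 3) F} (hM : M * mat s₁ = mat s₁ * M) :
    M ∈ Subring.closure ({mat s₁} : Set (Matrix (Fin 3) (Fin 3) F)) := by
  have h := mem_closure H.hp H.cardV H.hr.prime (fun m => H.hr.dvd_iff m) (by have := H.ha; omega) H.Es H.E1
    (x := E 3 F M) (by rw [← map_mul, ← map_mul, hM])
  rw [← Set.image_singleton, ← RingHom.map_closure] at h
  obtain ⟨M', hM', h2⟩ := Subring.mem_map.1 h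
  rwa [← E_inj h2]

theorem Dat.pow_one (H : Dat p a r s₁) (A : P s₁) : A ^ ((p ^ a) ^ 3 + 1) = 1 := by
  have hchar : CharP F p := by
    obtain ⟨p', hp'⟩ := CharP.exists F
    obtain ⟨n, hp'', hn⟩ := FiniteField.card F p'
    have h2 : p' ∣ p := by
      apply hp''.dvd_of_dvd_pow (n := a * 2)
      rw [pow_mul, ← H.hF, hn]
      exact dvd_pow_self _ n.ne_zero
    rwa [(Nat.prime_dvd_prime_iff_eq hp'' H.hp).1 h2] at hp'
  have hS : mat s₁ ^ ((p ^ a) ^ 3 + 1) = 1 := by
    apply E_inj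
    rw [map_pow, map_one]
    obtain ⟨k, hk⟩ := H.rq
    rw [hk, pow_mul, H.Es, _root_.one_pow]
  have hpow : ∀ k : ℕ, gm ((A.1) ^ k) = gm A.1 ^ k := by
    intro k
    induction k with
    | zero => rfl
    | succ k ih => rw [pow_succ, gm_mul, ih, pow_succ]
  apply Subtype.ext
  apply gm_inj
  change gm (A.1 ^ ((p ^ a) ^ 3 + 1)) = gm 1
  rw [hpow, gm_one]
  have key := fun u v => herm_adj (p := p) (k := a * 3) H.hp H.hF (pow_mul p a 3).symm
    (S := mat s₁) (fun u v => (LieClassical.SUBasic.mem_SU_iff _).1 s₁.2 u v) hS (H.mem A.2) u v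
  apply Matrix.ext_of_mulVec_single
  intro i
  rw [one_mulVec]
  generalize (Pi.single i 1 : Fin 3 → F) = v
  have hz : ∀ u, hermForm 3 F (p ^ a) u (gm A.1 ^ ((p ^ a) ^ 3 + 1) *ᵥ v - v) = 0 := by
    intro u
    rw [herm_sub_right H.hF, pow_succ, ← mulVec_mulVec, ← key, herm_gm, sub_self]
  have : gm A.1 ^ ((p ^ a) ^ 3 + 1) *ᵥ v - v = 0 :=
    herm_nondeg H.hF fun u => herm_eq_zero_swap H.hF (hz u)
  exact sub_eq_zero.1 this

theorem Dat.card_P (H : Dat p a r s₁) : Nat.card (P s₁) ∣ (p ^ a) ^ 3 + 1 := by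
  have := H.isCyclic
  obtain ⟨g, hg⟩ := IsCyclic.exists_generator (α := P s₁)
  rw [← orderOf_eq_card_of_forall_mem_zpowers hg]
  exact orderOf_dvd_of_pow_eq_one (H.pow_one g)

theorem card_ker (hF : Fintype.card F = q ^ 2) (hn : 3 ≤ n) : Nat.card (th n F q).ker = q + 1 := by
  rw [← card_norm_eq_one hF]
  refine (Nat.card_congr (Equiv.ofBijective
      (fun c : {c : F // c * c ^ q = 1} => (⟨sc n c * 1, ?_⟩ : (th n F q).ker)) ⟨?_, ?_⟩)).symm
  · rw [MonoidHom.mem_ker]
    change toAut (sc n c * 1) _ = 1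
    rw [toAut_sc_mul]
    exact map_one (th n F q)
  · intro c c' h
    have h1 : sc n c * 1 = sc n c' * 1 := congrArg (fun y => y.1) h
    have h3 := congrArg gm h1
    rw [gm_sc_mul, gm_sc_mul, gm_one] at h3
    have h4 := congrFun (congrFun h3 ⟨0, by omega⟩) ⟨0, by omega⟩
    rw [Matrix.smul_apply, Matrix.smul_apply, Matrix.one_apply_eq, smul_eq_mul, smul_eq_mul, mul_one, mul_one] at h4
    exact Subtype.ext h4
  · rintro ⟨A', h⟩
    have h' : toAut (1 : GU n F q) (RingEquiv.refl F) = toAut A' (RingEquiv.refl F) := by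
      have e1 : toAut (1 : GU n F q) (RingEquiv.refl F) = 1 := map_one (th n F q)
      exact e1.trans (MonoidHom.mem_ker.1 h).symm
    obtain ⟨h1, c, hc, h2⟩ := eq_of_toAut_eq hF hn h'
    refine ⟨⟨c, hc⟩, ?_⟩
    apply Subtype.ext
    apply gm_inj
    change gm (sc n ⟨c, hc⟩ * 1) = gm A'
    rw [gm_sc_mul, h2]

theorem scalar_mem_P (s₁ : SU n F q) (hF : Fintype.card F = q ^ 2) (hn : 3 ≤ n) : (th n F q).ker ≤ P s₁ := by
  intro A h
  have h' : toAut (1 : GU n F q) (RingEquiv.refl F) = toAut A (RingEquiv.refl F) := by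
    have e1 : toAut (1 : GU n F q) (RingEquiv.refl F) = 1 := map_one (th n F q)
    exact e1.trans (MonoidHom.mem_ker.1 h).symm
  obtain ⟨h1, c, hc, h2⟩ := eq_of_toAut_eq hF hn h'
  change gm A * mat s₁ = mat s₁ * gm A
  rw [h2, gm_one, smul_mul_assoc, mul_smul_comm, Matrix.one_mul, Matrix.mul_one]

/-- elements of `Aut PSU` fixing the class of `s₁` -/
theorem Dat.stab_le (H : Dat p a r s₁) (h32 : p ^ a ≠ 2) (β : MulAut (PSU 3 F (p ^ a)))
    (hβ : β (QuotientGroup.mk s₁) = QuotientGroup.mk s₁) : ∃ A ∈ P s₁, th 3 F (p ^ a) A = β := by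
  obtain ⟨A, ρ, rfl⟩ := ClassicalGeometry.PSUAutMain.exists_toAut H.hF le_rfl (fun h => h32 h.2) β
  rw [H198.UnitGamma.mk_toAut] at hβ
  have h1 := QuotientGroup.eq.1 hβ.symm
  obtain ⟨c, hc3, hcq, hc⟩ := (mem_center_SU_iff H.hF le_rfl _).1 h1
  have hr6 : 7 ≤ r := by
    have h2 : 6 * a ∣ r - 1 := (H.hr.dvd_iff (r - 1)).1 (by
      have hcop : p.Coprime r := (Nat.coprime_primes H.hp H.hr.prime).2 (fun h => H.hr.not_dvd (h ▸ dvd_rfl))
      have := Nat.ModEq.pow_totient hcop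
      rw [Nat.totient_prime H.hr.prime] at this
      exact (Nat.modEq_iff_dvd' (Nat.one_le_pow _ _ H.hp.pos)).1 this.symm)
    have h3 := H.hr.prime.two_le
    have h4 := Nat.le_of_dvd (by omega) h2
    have := H.ha
    omega
  -- `c = 1`
  have hc' : semiConj A ρ s₁ = s₁ * suScalar (p ^ a) c hc3 hcq := by rw [← hc, mul_inv_cancel_left]
  have hcr : c ^ r = 1 := by
    have h5 : (suScalar (p ^ a) c hc3 hcq : SU 3 F (p ^ a)) ^ r = 1 := by
      have hcomm : Commute s₁ (suScalar (p ^ a) c hc3 hcq : SU 3 F (p ^ a)) :=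
        (Subgroup.mem_center_iff.1 (suScalar_mem_center (p ^ a) c hc3 hcq) s₁)
      have h6 := congrArg (fun t => t ^ r) hc'
      simp only [hcomm.mul_pow, H.hs, one_mul] at h6
      rw [← h6, ← map_pow, H.hs, map_one]
    have h7 : ∀ k : ℕ, mat ((suScalar (p ^ a) c hc3 hcq : SU 3 F (p ^ a)) ^ k) = diagonal fun _ => c ^ k := by
      intro k
      induction k with
      | zero => simp [mat_one]
      | succ k ih =>
        rw [pow_succ, mat_mul, ih]
        change _ * diagonal (fun _ => c) = _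
        rw [diagonal_mul_diagonal]
        simp only [pow_succ]
    have h8 := h7 r
    rw [h5, mat_one] at h8
    have h9 := congrFun (congrFun h8 0) 0
    rw [Matrix.one_apply_eq, diagonal_apply_eq] at h9
    exact h9.symm
  have hc1 : c = 1 := by
    have hcop : Nat.Coprime 3 r := (Nat.coprime_primes Nat.prime_three H.hr.prime).2 (by omega)
    have h10 : orderOf c ∣ Nat.gcd 3 r := Nat.dvd_gcd (orderOf_dvd_of_pow_eq_one hc3) (orderOf_dvd_of_pow_eq_one hcr)
    rw [hcop] at h10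
    exact orderOf_eq_one_iff.1 (Nat.dvd_one.1 h10)
  have hfix : semiConj A ρ s₁ = s₁ := by
    rw [hc']
    subst hc1
    have : (suScalar (p ^ a) 1 hc3 hcq : SU 3 F (p ^ a)) = 1 := by
      apply mat_injective
      change diagonal (fun _ => (1 : F)) = mat 1
      rw [mat_one, diagonal_one]
    rw [this, mul_one]
  have hmat : gm A * (mat s₁).map ρ = mat s₁ * gm A := by
    have h := congrArg mat hfix
    rw [H198.UnitGamma.mat_semiConj] at h
    calc gm A * (mat s₁).map ρ = gm A * (mat s₁).map ρ * gm A⁻¹ * gm A := by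
          rw [Matrix.mul_assoc (gm A * _), gm_inv_mul, Matrix.mul_one]
      _ = _ := by rw [h]
  -- the semilinear map
  let g : AddMonoid.End (Fin 3 → F) :=
    { toFun := fun v => gm A *ᵥ fun i => ρ (v i)
      map_zero' := by
        simp only [Pi.zero_apply, map_zero]
        exact mulVec_zero _
      map_add' := fun u v => by
        simp only [Pi.add_apply, map_add]
        exact mulVec_add _ _ _ }
  have hg : g * E 3 F (mat s₁) = E 3 F (mat s₁) * g := by
    refine AddMonoidHom.ext fun v => ?_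
    change gm A *ᵥ (fun i => ρ ((mat s₁ *ᵥ v) i)) = mat s₁ *ᵥ (gm A *ᵥ fun i => ρ (v i))
    have h : (fun i => ρ ((mat s₁ *ᵥ v) i)) = (mat s₁).map ρ *ᵥ fun i => ρ (v i) := by
      funext i
      simp [mulVec, dotProduct, map_sum]
    rw [h, mulVec_mulVec, mulVec_mulVec, hmat]
  have hρ : ρ = RingEquiv.refl F := by
    ext l
    have hl : E 3 F (l • 1) * E 3 F (mat s₁) = E 3 F (mat s₁) * E 3 F (l • 1) := by
      rw [← map_mul, ← map_mul, smul_mul_assoc, mul_smul_comm, Matrix.one_mul, Matrix.mul_one]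
    have hcm := comm_of_comm H.hp H.cardV H.hr.prime (fun m => H.hr.dvd_iff m) (by have := H.ha; omega) H.Es H.E1
      hg hl
    have h := DFunLike.congr_fun hcm (fun _ => 1)
    change gm A *ᵥ (fun i => ρ (((l • (1 : Matrix (Fin 3) (Fin 3) F)) *ᵥ fun _ => 1) i)) =
      (l • (1 : Matrix (Fin 3) (Fin 3) F)) *ᵥ (gm A *ᵥ fun i => ρ 1) at h
    rw [smul_mulVec, smul_mulVec, one_mulVec, one_mulVec] at h
    have h2 : (fun i : Fin 3 => ρ ((l • (fun _ => (1 : F)) : Fin 3 → F) i)) = ρ l • (fun _ => (1 : F)) := by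
      funext i
      simp
    rw [h2, map_one, mulVec_smul, ← sub_eq_zero, ← sub_smul] at h
    rcases smul_eq_zero.1 h with h3 | h3
    · exact sub_eq_zero.1 h3
    · exfalso
      have h4 := gm_inv_mulVec A (fun _ => (1 : F))
      rw [h3, mulVec_zero] at h4
      exact zero_ne_one (congrFun h4 0)
  subst hρ
  exact ⟨A, hmat, rfl⟩

theorem Dat.card_stab (H : Dat p a r s₁) (h32 : p ^ a ≠ 2) (K : Subgroup (MulAut (PSU 3 F (p ^ a))))
    (hK : ∀ β ∈ K, β (QuotientGroup.mk s₁) = QuotientGroup.mk s₁) :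
    Nat.card K ∣ (p ^ a) ^ 2 - p ^ a + 1 := by
  have hfin : Finite (GU 3 F (p ^ a)) := LieClassical.GUOrder.finite_GU 3
  have hle : K ≤ (P s₁).map (th 3 F (p ^ a)) := by
    intro β hβ
    obtain ⟨A, hA, h⟩ := H.stab_le h32 β (hK β hβ)
    exact ⟨A, hA, h⟩
  have h1 := Subgroup.card_dvd_of_le hle
  have h2 : Nat.card ((P s₁).map (th 3 F (p ^ a))) * (p ^ a + 1) = Nat.card (P s₁) := by
    let f := (th 3 F (p ^ a)).subgroupMap (P s₁)
    have hf : Function.Surjective f := (th 3 F (p ^ a)).subgroupMap_surjective (P s₁)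
    have h3 := Subgroup.card_eq_card_quotient_mul_card_subgroup f.ker
    rw [Nat.card_congr (QuotientGroup.quotientKerEquivOfSurjective f hf).toEquiv] at h3
    rw [h3, ← card_ker (n := 3) H.hF le_rfl]
    congr 1
    refine Nat.card_congr (Equiv.ofBijective (fun A : (th 3 F (p ^ a)).ker =>
      (⟨⟨A.1, scalar_mem_P s₁ H.hF le_rfl A.2⟩, ?_⟩ : f.ker)) ⟨?_, ?_⟩)
    · exact Subtype.ext A.2
    · intro A B h
      exact Subtype.ext (congrArg (fun t : f.ker => t.1.1) h)
    · rintro ⟨⟨A, hA⟩, h⟩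
      exact ⟨⟨A, congrArg Subtype.val h⟩, rfl⟩
  have h3 := H.card_P
  rw [← h2] at h3
  have h4 : (p ^ a) ^ 3 + 1 = ((p ^ a) ^ 2 - p ^ a + 1) * (p ^ a + 1) := by
    generalize p ^ a = q
    have hq : q ≤ q ^ 2 := Nat.le_self_pow (by norm_num) q
    zify [hq]
    ring
  rw [h4] at h3
  exact h1.trans (Nat.dvd_of_mul_dvd_mul_right (Nat.succ_pos _) h3)

end U

/-- **`|C_A(s)| ∣ Q² - Q + 1`** -/
theorem card_cent_psu3 {p a : ℕ} (hp : p.Prime) (ha : 1 ≤ a) (h2 : p ^ a ≠ 2) {A : Type*} [Group A] [Finite A]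
    (S : Subgroup A) [S.Normal] (hC : Subgroup.centralizer (S : Set A) = ⊥) (hS : IsNamed (.psu 3 (p ^ a)) ↥S)
    {r : ℕ} (hr : Prim p (6 * a) r) {s : A} (hs : s ∈ S) (ho : orderOf s = r) :
    Nat.card ↥(Subgroup.centralizer {s} : Subgroup A) ∣ (p ^ a) ^ 2 - p ^ a + 1 := by
  obtain ⟨F, iF, iF', hF, ⟨e⟩⟩ := hS.real
  -- a lift of order `r`
  obtain ⟨s₀, hs₀⟩ := QuotientGroup.mk_surjective (e ⟨s, hs⟩)
  have hes : (e ⟨s, hs⟩) ^ r = 1 := by
    rw [← map_pow]
    have : (⟨s, hs⟩ : S) ^ r = 1 := Subtype.ext (by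
      change s ^ r = 1
      rw [← ho]; exact pow_orderOf_eq_one s)
    rw [this, map_one]
  have hr1 : r ≠ 1 := hr.prime.ne_one
  have hne : e ⟨s, hs⟩ ≠ 1 := by
    intro h
    have h2 : (⟨s, hs⟩ : S) = 1 := e.injective (h.trans (map_one e).symm)
    have h3 : s = 1 := congrArg Subtype.val h2
    rw [h3, orderOf_one] at ho
    exact hr1 ho.symm
  have hr7 : 7 ≤ r := by
    have h2 : 6 * a ∣ r - 1 := (hr.dvd_iff (r - 1)).1 (by
      have hcop : p.Coprime r := (Nat.coprime_primes hp hr.prime).2 (fun h => hr.not_dvd (h ▸ dvd_rfl))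
      have := Nat.ModEq.pow_totient hcop
      rw [Nat.totient_prime hr.prime] at this
      exact (Nat.modEq_iff_dvd' (Nat.one_le_pow _ _ hp.pos)).1 this.symm)
    have h3 := hr.prime.two_le
    have h4 := Nat.le_of_dvd (by omega) h2
    omega
  have hcen : s₀ ^ r ∈ Subgroup.center (SU 3 F (p ^ a)) := by
    rw [← QuotientGroup.eq_one_iff]
    change ((s₀ : PSU 3 F (p ^ a)) ^ r) = 1
    rw [hs₀, hes]
  have h3r : (s₀ ^ r) ^ 3 = 1 := by
    have h5 := S0279.result hF 3 le_rfl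
    have h6 : (⟨s₀ ^ r, hcen⟩ : Subgroup.center (SU 3 F (p ^ a))) ^ 3 = 1 := by
      apply orderOf_dvd_iff_pow_eq_one.1
      refine (orderOf_dvd_natCard _).trans ?_
      rw [h5]
      exact Nat.gcd_dvd_left _ _
    exact congrArg Subtype.val h6
  have hcop : Nat.Coprime 3 r := (Nat.coprime_primes Nat.prime_three hr.prime).2 (by omega)
  obtain ⟨k, hk1, hk2⟩ := Nat.chineseRemainder hcop 0 1
  have hk3 : 3 ∣ k := (Nat.modEq_zero_iff_dvd).1 hk1
  have hsk : (QuotientGroup.mk (s₀ ^ k) : PSU 3 F (p ^ a)) = e ⟨s, hs⟩ := by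
    change ((s₀ : PSU 3 F (p ^ a)) ^ k) = _
    rw [hs₀]
    have : (e ⟨s, hs⟩) ^ k = (e ⟨s, hs⟩) ^ 1 := by
      rw [pow_eq_pow_iff_modEq]
      exact hk2.of_dvd (orderOf_dvd_of_pow_eq_one hes)
    rw [this, pow_one]
  have D : Dat p a r (s₀ ^ k) :=
    { hp := hp
      ha := ha
      hF := hF
      hr := hr
      hs := by
        obtain ⟨m, rfl⟩ := hk3
        rw [← pow_mul, show 3 * m * r = (r * 3) * m by ring, pow_mul, pow_mul, h3r, one_pow]
      h1 := by
        intro h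
        rw [h] at hsk
        exact hne hsk.symm }
  -- the embedding
  let φ : A →* MulAut (PSU 3 F (p ^ a)) :=
    (MulAut.congr e).toMonoidHom.comp (MulAut.conjNormal (H := S))
  have hφ : Function.Injective φ := by
    rw [injective_iff_map_eq_one]
    intro x hx
    have h1 : MulAut.conjNormal (H := S) x = 1 := (MulAut.congr e).injective (hx.trans (map_one _).symm)
    have h2 : x ∈ Subgroup.centralizer (S : Set A) := by
      rw [Subgroup.mem_centralizer_iff]
      intro y hy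
      have h3 := congrArg (fun t : MulAut S => ((t ⟨y, hy⟩ : S) : A)) h1
      have h4 : x * y * x⁻¹ = y := h3
      rw [mul_inv_eq_iff_eq_mul] at h4
      exact h4.symm
    rw [hC] at h2
    exact Subgroup.mem_bot.1 h2
  have hcard : Nat.card (Subgroup.centralizer ({s} : Set A)) =
      Nat.card ((Subgroup.centralizer ({s} : Set A)).map φ) :=
    Nat.card_congr ((Subgroup.centralizer ({s} : Set A)).equivMapOfInjective φ hφ).toEquiv
  rw [hcard]
  apply D.card_stab h2
  rintro _ ⟨x, hx, rfl⟩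
  have hx' : x * s * x⁻¹ = s := by
    rw [mul_inv_eq_iff_eq_mul]
    exact (Subgroup.mem_centralizer_singleton_iff.1 hx)
  rw [hsk]
  change e (MulAut.conjNormal x (e.symm (e ⟨s, hs⟩))) = e ⟨s, hs⟩
  rw [e.symm_apply_apply]
  congr 1
  exact Subtype.ext hx'

end Cfsg.Agent.H441.Wei
end

-- part: H604/Spr/Semi
section
prune_inst 0x1004400046000000018008421001c02aa000082000b040084a2010004c06c402d010620b130001718828844403000200000000040600000040004000118008000808200a0480100000096000000000000000000010000000000000000010000000000000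
set_option linter.all false
open scoped Cfsg.Agent.FastGrp

-- part: H604/Spr/Uniq
section
/-!
# S3938, orthogonal groups: fields of matrices centralised by a block element (helper604)

`uniq` : two fields of matrices of degree 2 centralised by an element `x` which is irreducible on `range (x - 1)` induce
the same operators on `range (x - 1)`.
-/

set_option autoImplicit false
set_option linter.unusedSectionVars false

namespace Cfsg.Agent.H604.Spr

open Cfsg Cfsg.Geo Module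
open Cfsg.Agent.H383.Cov (Blk comm_aeval toLin_pow_orderOf eq_zero_of_fix pow_of_even)
open Cfsg.Agent.H907 (isField_of card_K)
open scoped MatrixGroups Matrix

variable {ι : Type} [Fintype ι] [DecidableEq ι] {F : Type} [Field F] [Finite F]

/-- the fixed vectors of `x` -/
abbrev Fx (x : GL ι F) : Submodule F (ι → F) := LinearMap.ker (Matrix.toLin' (x : Matrix ι ι F) - 1)

/-- the range of `x - 1` -/
abbrev Rx (x : GL ι F) : Submodule F (ι → F) := LinearMap.range (Matrix.toLin' (x : Matrix ι ι F) - 1)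

omit [Finite F] in
theorem mem_Fx {x : GL ι F} {w : ι → F} : w ∈ Fx x ↔ (x : Matrix ι ι F) *ᵥ w = w := by
  rw [LinearMap.mem_ker]
  exact sub_eq_zero

omit [Finite F] in
theorem mem_Rx {x : GL ι F} {w : ι → F} : w ∈ Rx x ↔ ∃ z, (x : Matrix ι ι F) *ᵥ z - z = w := by
  rw [LinearMap.mem_range]
  exact Iff.rfl

omit [Finite F] in
theorem Rx_comm {x : GL ι F} {e : Matrix ι ι F} (he : (x : Matrix ι ι F) * e = e * x) {w : ι → F} (hw : w ∈ Rx x) :
    e *ᵥ w ∈ Rx x := by
  obtain ⟨z, rfl⟩ := mem_Rx.1 hw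
  refine mem_Rx.2 ⟨e *ᵥ z, ?_⟩
  rw [Matrix.mulVec_sub, Matrix.mulVec_mulVec, Matrix.mulVec_mulVec, he]

omit [Finite F] in
theorem Fx_comm {x : GL ι F} {e : Matrix ι ι F} (he : (x : Matrix ι ι F) * e = e * x) {w : ι → F} (hw : w ∈ Fx x) :
    e *ᵥ w ∈ Fx x := by
  rw [mem_Fx] at hw ⊢
  rw [Matrix.mulVec_mulVec, he, ← Matrix.mulVec_mulVec, hw]

omit [Finite F] in
theorem comm_poly {x : GL ι F} (f : Polynomial F) :
    (x : Matrix ι ι F) * Polynomial.aeval (x : Matrix ι ι F) f = Polynomial.aeval (x : Matrix ι ι F) f * x :=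
  (comm_aeval (t := (x : Matrix ι ι F)) (e := (x : Matrix ι ι F)) rfl f).symm

theorem cyc {k : ℕ} {x : GL ι F} (hb : Blk k x) {v₀ : ι → F} (hv₀ : v₀ ∈ Rx x) (hv₀0 : v₀ ≠ 0) :
    ∀ w ∈ Rx x, ∃ f : Polynomial F, w = Polynomial.aeval (x : Matrix ι ι F) f *ᵥ v₀ := by
  set X : Matrix ι ι F := (x : Matrix ι ι F) with hX
  let C : Submodule F (ι → F) := LinearMap.range
    ({ toFun := fun f : Polynomial F => Polynomial.aeval X f *ᵥ v₀
       map_add' := fun f g => by rw [map_add, Matrix.add_mulVec]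
       map_smul' := fun c f => by rw [map_smul, Matrix.smul_mulVec, RingHom.id_apply] } :
      Polynomial F →ₗ[F] (ι → F))
  have hCinv : ∀ w ∈ C, X *ᵥ w ∈ C := by
    rintro _ ⟨f, rfl⟩
    refine ⟨Polynomial.X * f, ?_⟩
    change Polynomial.aeval X (Polynomial.X * f) *ᵥ v₀ = X *ᵥ (Polynomial.aeval X f *ᵥ v₀)
    rw [map_mul, Polynomial.aeval_X, Matrix.mulVec_mulVec]
  rcases hb.le_or_le hCinv with h | h
  · exfalso
    apply hv₀0
    have h1 : v₀ ∈ C := ⟨1, by
      change Polynomial.aeval X 1 *ᵥ v₀ = v₀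
      rw [map_one, Matrix.one_mulVec]⟩
    have h2 := h h1
    rw [LinearMap.mem_ker] at h2
    obtain ⟨z, hz⟩ := mem_Rx.1 hv₀
    exact eq_zero_of_fix (toLin_pow_orderOf x) hb.copq (v := z) hz.symm (sub_eq_zero.1 h2)
  · intro w hw
    obtain ⟨f, hf⟩ := h hw
    exact ⟨f, hf.symm⟩

/-- a nonzero vector of `range (x - 1)` -/
theorem exists_ne {k : ℕ} {x : GL ι F} (hk : 1 ≤ k) (hb : Blk k x) : ∃ v₀ ∈ Rx x, v₀ ≠ 0 := by
  by_contra hcon
  push Not at hcon
  have h1 : Rx x = ⊥ := by rw [Submodule.eq_bot_iff]; exact hcon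
  have h2 : finrank F (Rx x) = k := hb.rk
  rw [h1, finrank_bot] at h2
  omega

theorem poly_of {k : ℕ} {x : GL ι F} (hk : 1 ≤ k) (hb : Blk k x) {e : Matrix ι ι F}
    (he : (x : Matrix ι ι F) * e = e * x) :
    ∃ f : Polynomial F, ∀ u ∈ Rx x, e *ᵥ u = Polynomial.aeval (x : Matrix ι ι F) f *ᵥ u := by
  obtain ⟨v₀, hv₀, hv₀0⟩ := exists_ne hk hb
  obtain ⟨f, hf⟩ := cyc hb hv₀ hv₀0 _ (Rx_comm he hv₀)
  refine ⟨f, fun u hu => ?_⟩
  obtain ⟨g, rfl⟩ := cyc hb hv₀ hv₀0 u hu
  have h1 : Polynomial.aeval (x : Matrix ι ι F) f *ᵥ (Polynomial.aeval (x : Matrix ι ι F) g *ᵥ v₀) =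
      Polynomial.aeval (x : Matrix ι ι F) g *ᵥ (Polynomial.aeval (x : Matrix ι ι F) f *ᵥ v₀) := by
    rw [Matrix.mulVec_mulVec, Matrix.mulVec_mulVec, ← map_mul, ← map_mul, mul_comm]
  rw [h1, ← hf, Matrix.mulVec_mulVec, Matrix.mulVec_mulVec, comm_aeval he]

/-- the polynomials in `x` which vanish on `range (x - 1)` -/
def ann (x : GL ι F) : Ideal (Polynomial F) where
  carrier := {f | ∀ u ∈ Rx x, Polynomial.aeval (x : Matrix ι ι F) f *ᵥ u = 0}
  add_mem' := by
    intro f g hf hg u hu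
    rw [map_add, Matrix.add_mulVec, hf u hu, hg u hu, add_zero]
  zero_mem' := by
    intro u _
    rw [map_zero, Matrix.zero_mulVec]
  smul_mem' := by
    intro c f hf u hu
    rw [smul_eq_mul, map_mul, ← Matrix.mulVec_mulVec, hf u hu, Matrix.mulVec_zero]

omit [Finite F] in
theorem mem_ann {x : GL ι F} {f : Polynomial F} :
    f ∈ ann x ↔ ∀ u ∈ Rx x, Polynomial.aeval (x : Matrix ι ι F) f *ᵥ u = 0 := Iff.rfl

theorem ann_prime {k : ℕ} {x : GL ι F} (hk : 1 ≤ k) (hb : Blk k x) : (ann x).IsPrime := by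
  refine ⟨?_, ?_⟩
  · intro h
    obtain ⟨v₀, hv₀, hv₀0⟩ := exists_ne hk hb
    apply hv₀0
    have h1 : (1 : Polynomial F) ∈ ann x := by rw [h]; trivial
    have h2 := h1 v₀ hv₀
    rwa [map_one, Matrix.one_mulVec] at h2
  · intro f g hfg
    by_contra hcon
    rw [not_or] at hcon
    obtain ⟨hf, hg⟩ := hcon
    apply hg
    obtain ⟨u₁, hu₁, hu₁0⟩ : ∃ u ∈ Rx x, Polynomial.aeval (x : Matrix ι ι F) f *ᵥ u ≠ 0 := by
      by_contra hc
      push Not at hc
      exact hf hc
    intro u hu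
    obtain ⟨h, rfl⟩ := cyc hb (Rx_comm (comm_poly f) hu₁) hu₁0 u hu
    have h3 := hfg u₁ hu₁
    rw [Matrix.mulVec_mulVec, Matrix.mulVec_mulVec, ← map_mul, ← map_mul,
      show g * h * f = h * (f * g) by ring, map_mul, ← Matrix.mulVec_mulVec, h3, Matrix.mulVec_zero]

/-- two sets of `N` roots of `t ^ N - t` in a domain -/
theorem eq_of_domain {D E E' : Type*} [CommRing D] [IsDomain D] [Fintype E'] {N : ℕ} (hN : 1 < N)
    (hE' : Fintype.card E' = N) (φ : E → D) (φ' : E' → D) (hinj : Function.Injective φ')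
    (h : ∀ e, φ e ^ N = φ e) (h' : ∀ e, φ' e ^ N = φ' e) (e : E) : ∃ e', φ' e' = φ e := by
  classical
  have hp0 : (Polynomial.X ^ N - Polynomial.X : Polynomial D) ≠ 0 := by
    intro h0
    have h1 := congrArg (fun p => Polynomial.coeff p N) h0
    simp only [Polynomial.coeff_sub, Polynomial.coeff_X_pow, Polynomial.coeff_X, Polynomial.coeff_zero, if_true,
      if_neg (show ¬ 1 = N by omega), sub_zero] at h1
    exact one_ne_zero h1
  have hdeg : (Polynomial.X ^ N - Polynomial.X : Polynomial D).natDegree ≤ N := by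
    refine (Polynomial.natDegree_sub_le _ _).trans ?_
    rw [Polynomial.natDegree_X_pow, Polynomial.natDegree_X]
    omega
  set S := (Polynomial.X ^ N - Polynomial.X : Polynomial D).roots.toFinset with hS
  have hmem : ∀ d : D, d ^ N = d → d ∈ S := by
    intro d hd
    rw [hS, Multiset.mem_toFinset, Polynomial.mem_roots hp0, Polynomial.IsRoot.def, Polynomial.eval_sub,
      Polynomial.eval_pow, Polynomial.eval_X, hd, sub_self]
  have hcard : S.card ≤ N := (Multiset.toFinset_card_le _).trans ((Polynomial.card_roots' _).trans hdeg)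
  have h1 : Finset.univ.image φ' = S := by
    apply Finset.eq_of_subset_of_card_le
    · intro d hd
      obtain ⟨e', -, rfl⟩ := Finset.mem_image.1 hd
      exact hmem _ (h' e')
    · rw [Finset.card_image_of_injective _ hinj, Finset.card_univ, hE']
      exact hcard
  have h2 := hmem _ (h e)
  rw [← h1] at h2
  obtain ⟨e', -, h3⟩ := Finset.mem_image.1 h2
  exact ⟨e', h3⟩

/-- **Uniqueness of the field on `range (x - 1)`.** -/
theorem uniq [Nonempty ι] {k : ℕ} {x : GL ι F} (hk : 1 ≤ k) (hb : Blk k x) {E E' : Subalgebra F (Matrix ι ι F)}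
    (hE : IsFieldSubalgebra 2 E) (hE' : IsFieldSubalgebra 2 E') (h : ∀ e ∈ E, (x : Matrix ι ι F) * e = e * x)
    (h' : ∀ e ∈ E', (x : Matrix ι ι F) * e = e * x) {e : Matrix ι ι F} (he : e ∈ E) :
    ∃ e' ∈ E', ∀ u ∈ Rx x, e *ᵥ u = e' *ᵥ u := by
  have := Fintype.ofFinite F
  have hP : (ann x).IsPrime := ann_prime hk hb
  have hD : IsDomain (Polynomial F ⧸ ann x) := Ideal.Quotient.isDomain _
  have hfin : Finite E' := inferInstance
  have := Fintype.ofFinite E'
  have hcard : Fintype.card E' = Nat.card F ^ 2 := by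
    rw [← Nat.card_eq_fintype_card, card_K hE', Nat.card_eq_fintype_card]
  have hN : 1 < Nat.card F ^ 2 := by
    have : 1 < Nat.card F := Finite.one_lt_card
    exact Nat.one_lt_pow (by norm_num) this
  have key : ∀ (K : Subalgebra F (Matrix ι ι F)), IsFieldSubalgebra 2 K → (∀ e ∈ K, (x : Matrix ι ι F) * e = e * x) →
      ∃ f : K → Polynomial F, (∀ (e : K), ∀ u ∈ Rx x, (e : Matrix ι ι F) *ᵥ u =
        Polynomial.aeval (x : Matrix ι ι F) (f e) *ᵥ u) ∧
        ∀ e : K, (Ideal.Quotient.mk (ann x) (f e)) ^ (Nat.card F ^ 2) = Ideal.Quotient.mk (ann x) (f e) := by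
    intro K hK hc
    choose f hf using fun e : K => poly_of hk hb (hc e e.2)
    refine ⟨f, hf, fun e => ?_⟩
    rw [← map_pow, Ideal.Quotient.mk_eq_mk_iff_sub_mem, mem_ann]
    intro u hu
    have hpow : ∀ n : ℕ, ∀ u ∈ Rx x, (Polynomial.aeval (x : Matrix ι ι F) (f e)) ^ n *ᵥ u =
        (e : Matrix ι ι F) ^ n *ᵥ u := by
      intro n
      induction n with
      | zero => intro u _; rw [pow_zero, pow_zero]
      | succ n ih =>
        intro u hu
        rw [pow_succ, pow_succ, ← Matrix.mulVec_mulVec, ← Matrix.mulVec_mulVec, ← hf e u hu,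
          ih _ (Rx_comm (hc e e.2) hu)]
    rw [map_sub, map_pow, Matrix.sub_mulVec, hpow _ u hu, pow_of_even hK e.2 even_two, ← hf e u hu, sub_self]
  obtain ⟨f, hf, hfp⟩ := key E hE h
  obtain ⟨f', hf', hfp'⟩ := key E' hE' h'
  obtain ⟨e', he'⟩ := eq_of_domain hN hcard (fun e : E => Ideal.Quotient.mk (ann x) (f e))
    (fun e : E' => Ideal.Quotient.mk (ann x) (f' e)) (by
      intro e₁ e₂ h12
      have h1 := (Ideal.Quotient.mk_eq_mk_iff_sub_mem _ _).1 h12
      obtain ⟨v₀, hv₀, hv₀0⟩ := exists_ne hk hb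
      have h2 := h1 v₀ hv₀
      rw [map_sub, Matrix.sub_mulVec, ← hf' e₁ v₀ hv₀, ← hf' e₂ v₀ hv₀, ← Matrix.sub_mulVec] at h2
      by_contra hne
      obtain ⟨y, hy, hy1⟩ := hE'.inv ((e₁ : Matrix ι ι F) - e₂) (E'.sub_mem e₁.2 e₂.2) (by
        intro h0
        exact hne (Subtype.ext (sub_eq_zero.1 h0)))
      apply hv₀0
      have h3 : y * ((e₁ : Matrix ι ι F) - e₂) = 1 := by
        rw [← hy1]
        exact hE'.comm _ hy _ (E'.sub_mem e₁.2 e₂.2)
      rw [← Matrix.one_mulVec v₀, ← h3, ← Matrix.mulVec_mulVec, h2, Matrix.mulVec_zero]) hfp hfp' ⟨e, he⟩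
  refine ⟨e', e'.2, fun u hu => ?_⟩
  have h1 := (Ideal.Quotient.mk_eq_mk_iff_sub_mem _ _).1 he'
  have h2 := h1 u hu
  rw [map_sub, Matrix.sub_mulVec, ← hf ⟨e, he⟩ u hu, ← hf' e' u hu] at h2
  exact (sub_eq_zero.1 h2).symm

end Cfsg.Agent.H604.Spr
end

-- part: H604/Spr/LemL
section
/-!
# S3938, orthogonal groups of plus type: moving a subspace out of a lattice (helper604)

`move` : `R` a nondegenerate subspace of dimension at least 7, `𝓔` a set of endomorphisms without invariant subspaces of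
dimension 1 in `R`, `U` a subspace of `R` different from `0` and `R`: some `g ∈ Ω` trivial on `R^⊥` moves `U` to a subspace
which is not `𝓔`-invariant.
-/

set_option autoImplicit false

namespace Cfsg.Agent.H604.Spr

open QuadraticMap hiding proj
open Module
open Cfsg.Agent.LieClassical.OrthCore Cfsg.Agent.LieClassical.OrthTrans Cfsg.Agent.LieClassical.OrthSimple
open Cfsg.Agent.LieClassical.OrthFinite

section Sep

variable {F V : Type*} [Field F] [AddCommGroup V] [Module F V] {Q : QuadraticForm F V}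

theorem exists_sep2 (hQ : Nondeg Q) {a b c : V} (h : ∀ s t : F, c ≠ s • a + t • b) :
    ∃ y, polar Q a y = 0 ∧ polar Q b y = 0 ∧ polar Q c y ≠ 0 := by
  by_contra hcon
  push Not at hcon
  have h1 := mem_span_of_iInf_ker_le_ker (L := ![(polarBilin Q a : V →ₗ[F] F), (polarBilin Q b : V →ₗ[F] F)])
    (K := (polarBilin Q c : V →ₗ[F] F)) (by
      intro y hy
      simp only [Submodule.mem_iInf, Fin.forall_fin_two, Matrix.cons_val_zero, Matrix.cons_val_one,
        LinearMap.mem_ker, polarBilin_apply_apply] at hy ⊢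
      exact hcon y hy.1 hy.2)
  rw [Matrix.range_cons, Matrix.range_cons, Matrix.range_empty, Set.union_empty, Set.singleton_union,
    Submodule.mem_span_pair] at h1
  obtain ⟨s, t, hst⟩ := h1
  apply h s t
  rw [← sub_eq_zero]
  apply hQ
  intro y
  have h2 := LinearMap.congr_fun hst y
  simp only [LinearMap.add_apply, LinearMap.smul_apply, polarBilin_apply_apply, smul_eq_mul] at h2
  rw [polar_sub_left, polar_add_left, polar_smul_left, polar_smul_left, smul_eq_mul, smul_eq_mul, h2, sub_self]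

variable [Finite F] [FiniteDimensional F V]

theorem exists_hyp2 (hQ : Nondeg Q) (hd : 7 ≤ finrank F V) (a b : V) :
    ∃ p p', Hyp Q p p' ∧ polar Q a p = 0 ∧ polar Q b p = 0 ∧ polar Q a p' = 0 ∧ polar Q b p' = 0 := by
  let f : V →ₗ[F] (Fin 2 → F) := LinearMap.pi ![(polarBilin Q a : V →ₗ[F] F), (polarBilin Q b : V →ₗ[F] F)]
  have hf : ∀ y, y ∈ LinearMap.ker f ↔ polar Q a y = 0 ∧ polar Q b y = 0 := by
    intro y
    rw [LinearMap.mem_ker, funext_iff, Fin.forall_fin_two]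
    exact Iff.rfl
  set X := LinearMap.ker f with hX
  set S : Submodule F V := Submodule.span F {a, b} with hS
  have h1 := LinearMap.finrank_range_add_finrank_ker f
  have h2 : finrank F (LinearMap.range f) ≤ 2 := by
    refine le_trans (Submodule.finrank_le _) ?_
    rw [Module.finrank_fin_fun]
  have h3 : finrank F S ≤ 2 := by
    classical
    have h := finrank_span_finset_le_card (R := F) ({a, b} : Finset V)
    rw [Set.finrank, Finset.coe_pair] at h
    exact h.trans Finset.card_le_two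
  obtain ⟨C, hC1, hC2⟩ : ∃ C : Submodule F V, C ≤ X ∧ Disjoint C S ∧ 3 ≤ finrank F C := by
    obtain ⟨C', hC'⟩ := Submodule.exists_isCompl ((X ⊓ S).comap X.subtype)
    refine ⟨C'.map X.subtype, ?_, ?_, ?_⟩
    · rintro _ ⟨y, -, rfl⟩
      exact y.2
    · rw [Submodule.disjoint_def]
      rintro _ ⟨y, hy, rfl⟩ hyS
      have h4 : y ∈ (X ⊓ S).comap X.subtype := ⟨y.2, hyS⟩
      have h5 := Submodule.disjoint_def.1 hC'.disjoint y h4 hy
      rw [h5]
      rfl
    · rw [Submodule.finrank_map_subtype_eq]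
      have h4 := Submodule.finrank_add_eq_of_isCompl hC'
      rw [← hX] at h1
      have h5 : finrank F ((X ⊓ S).comap X.subtype) ≤ 2 := by
        have h6 : finrank F (((X ⊓ S).comap X.subtype).map X.subtype) = finrank F ((X ⊓ S).comap X.subtype) :=
          Submodule.finrank_map_subtype_eq _ _
        rw [← h6]
        refine (Submodule.finrank_mono ?_).trans h3
        rintro _ ⟨y, hy, rfl⟩
        exact hy.2
      omega
  obtain ⟨hC2, hC3⟩ := hC2
  obtain ⟨p, hp, hp0, hQp⟩ := exists_sing_mem (Q := Q) C hC3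
  have hpX := (hf p).1 (hC1 hp)
  obtain ⟨y, hay, hby, hpy⟩ := exists_sep2 hQ (a := a) (b := b) (c := p) (by
    intro s t h
    apply hp0
    refine Submodule.disjoint_def.1 hC2 p hp ?_
    rw [h]
    exact Submodule.mem_span_pair.2 ⟨s, t, rfl⟩)
  obtain ⟨y1, e1, e2, e3⟩ : ∃ y1, polar Q p y1 = 1 ∧ polar Q a y1 = 0 ∧ polar Q b y1 = 0 :=
    ⟨(polar Q p y)⁻¹ • y, by rw [polar_smul_right, smul_eq_mul, inv_mul_cancel₀ hpy],
      by rw [polar_smul_right, hay, smul_zero], by rw [polar_smul_right, hby, smul_zero]⟩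
  refine ⟨p, y1 + (-Q y1) • p, ⟨hQp, ?_, ?_⟩, hpX.1, hpX.2, ?_, ?_⟩
  · rw [Q_add, QuadraticMap.map_smul, hQp, polar_smul_right, polar_comm Q y1 p, e1]
    simp
  · rw [polar_add_right, polar_smul_right, polar_self_of_sing hQp, e1]
    simp
  · rw [polar_add_right, polar_smul_right, e2, hpX.1]
    simp
  · rw [polar_add_right, polar_smul_right, e3, hpX.2]
    simp

theorem exists_sing_sep (hQ : Nondeg Q) (hd : 7 ≤ finrank F V) {a b c : V} (h : ∀ s t : F, c ≠ s • a + t • b) :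
    ∃ w, Q w = 0 ∧ polar Q a w = 0 ∧ polar Q b w = 0 ∧ polar Q c w ≠ 0 := by
  obtain ⟨p, p', hp, ha, hb, ha', hb'⟩ := exists_hyp2 hQ hd a b
  obtain ⟨y, hay, hby, hcy⟩ := exists_sep2 hQ h
  by_cases h1 : polar Q c p = 0
  · by_cases h2 : polar Q c p' = 0
    · refine ⟨p + proj Q p p' y - Q (proj Q p p' y) • p', sing_vec hp (polar_proj_left hp y) (polar_proj_right hp y),
        ?_, ?_, ?_⟩
      · rw [polar_sub_right, polar_add_right, polar_smul_right, proj, polar_sub_right, polar_sub_right,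
          polar_smul_right, polar_smul_right, ha, ha', hay]
        simp
      · rw [polar_sub_right, polar_add_right, polar_smul_right, proj, polar_sub_right, polar_sub_right,
          polar_smul_right, polar_smul_right, hb, hb', hby]
        simp
      · rw [polar_sub_right, polar_add_right, polar_smul_right, proj, polar_sub_right, polar_sub_right,
          polar_smul_right, polar_smul_right, h1, h2]
        simpa using hcy
    · exact ⟨p', hp.right, ha', hb', h2⟩
  · exact ⟨p, hp.left, ha, hb, h1⟩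

end Sep

section Move

variable {F V : Type*} [Field F] [Finite F] [AddCommGroup V] [Module F V] [FiniteDimensional F V]
  {Q : QuadraticForm F V}

/-- `X` is invariant under the set `𝓔` -/
def Inv (𝓔 : Set (Module.End F V)) (X : Submodule F V) : Prop := ∀ e ∈ 𝓔, ∀ v ∈ X, e v ∈ X

omit [Finite F] [FiniteDimensional F V] in
theorem Inv.inf {𝓔 : Set (Module.End F V)} {X Y : Submodule F V} (hX : Inv 𝓔 X) (hY : Inv 𝓔 Y) : Inv 𝓔 (X ⊓ Y) :=
  fun e he v hv => ⟨hX e he v hv.1, hY e he v hv.2⟩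

/-- the elements of `Ω` trivial on `R^⊥` -/
def Gam (Q : QuadraticForm F V) (R : Submodule F V) : Subgroup (V ≃ₗ[F] V) where
  carrier := {g | g ∈ E Q ∧ ∀ v, (∀ r ∈ R, polar Q r v = 0) → g v = v}
  mul_mem' {g h} hg hh := ⟨(E Q).mul_mem hg.1 hh.1, fun v hv => by
    change g (h v) = v
    rw [hh.2 v hv, hg.2 v hv]⟩
  one_mem' := ⟨(E Q).one_mem, fun v _ => rfl⟩
  inv_mem' {g} hg := ⟨(E Q).inv_mem hg.1, fun v hv => by
    change g.symm v = v
    rw [LinearEquiv.symm_apply_eq]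
    exact (hg.2 v hv).symm⟩

omit [Finite F] [FiniteDimensional F V] in
theorem siegel_mem_Gam {R : Submodule F V} {z w : V} (hz : Q z = 0) (hzw : polar Q z w = 0) (hzR : z ∈ R)
    (hwR : w ∈ R) : siegel Q z w hz hzw ∈ Gam Q R := by
  refine ⟨siegel_mem_E _ _, fun v hv => ?_⟩
  rw [siegel_apply, hv z hzR, hv w hwR]
  simp

omit [Finite F] [FiniteDimensional F V] in
theorem map_mul_eq (X : Submodule F V) (g h : V ≃ₗ[F] V) :
    X.map ((g * h : V ≃ₗ[F] V) : V →ₗ[F] V) = (X.map (h : V →ₗ[F] V)).map (g : V →ₗ[F] V) := by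
  rw [← Submodule.map_comp]
  rfl

/-- **Moving a subspace.** -/
theorem move {R : Submodule F V} (hR : Nondeg (Q.comp R.subtype)) (hd : 7 ≤ finrank F R)
    {𝓔 : Set (Module.End F V)} (h2 : ∀ X ≤ R, X ≠ ⊥ → Inv 𝓔 X → 2 ≤ finrank F X) {U : Submodule F V} (hU : U ≤ R)
    (hU0 : U ≠ ⊥) (hUR : U ≠ R) : ∃ g ∈ Gam Q R, ¬ Inv 𝓔 (U.map (g : V →ₗ[F] V)) := by
  classical
  by_contra hcon
  push Not at hcon
  have hpol : ∀ x y : R, polar (Q.comp R.subtype) x y = polar Q (x : V) (y : V) := fun x y => by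
    simp only [polar, QuadraticMap.comp_apply, map_add, Submodule.subtype_apply]
  -- a minimal member of the lattice
  have hex : ∃ n : ℕ, ∃ X ≤ R, X ≠ ⊥ ∧ finrank F X = n ∧ ∀ g ∈ Gam Q R, Inv 𝓔 (X.map (g : V →ₗ[F] V)) :=
    ⟨_, U, hU, hU0, rfl, hcon⟩
  obtain ⟨X, hXR, hX0, hXn, hXinv⟩ := Nat.find_spec hex
  have hmin : ∀ Y ≤ R, Y ≠ ⊥ → (∀ g ∈ Gam Q R, Inv 𝓔 (Y.map (g : V →ₗ[F] V))) → finrank F X ≤ finrank F Y := by
    intro Y h1 h3 h4
    rw [hXn]
    exact Nat.find_min' hex ⟨Y, h1, h3, rfl, h4⟩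
  have hXlt : finrank F X < finrank F R := by
    refine (hmin U hU hU0 hcon).trans_lt ?_
    exact Submodule.finrank_lt_finrank_of_lt (lt_of_le_of_ne hU hUR)
  have hX2 : 2 ≤ finrank F X := by
    refine h2 X hXR hX0 ?_
    have := hXinv 1 (Gam Q R).one_mem
    have e1 : X.map ((1 : V ≃ₗ[F] V) : V →ₗ[F] V) = X := Submodule.map_id X
    rwa [e1] at this
  have key : ∀ g ∈ Gam Q R, (∃ x ∈ X, x ≠ 0 ∧ g x = x) → ∀ x ∈ X, g x ∈ X := by
    rintro g hg ⟨x, hx, hx0, hgx⟩ y hy
    have hne : X ⊓ X.map (g : V →ₗ[F] V) ≠ ⊥ := by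
      intro h
      apply hx0
      have h1 : x ∈ X ⊓ X.map (g : V →ₗ[F] V) := ⟨hx, ⟨x, hx, hgx⟩⟩
      rw [h] at h1
      exact (Submodule.mem_bot F).1 h1
    have h1 := hmin _ ((inf_le_left : X ⊓ X.map (g : V →ₗ[F] V) ≤ X).trans hXR) hne (by
      intro k hk
      rw [Submodule.map_inf _ k.injective]
      refine Inv.inf (hXinv k hk) ?_
      rw [← map_mul_eq]
      exact hXinv _ ((Gam Q R).mul_mem hk hg))
    have h3 : X ⊓ X.map (g : V →ₗ[F] V) = X :=
      Submodule.eq_of_le_of_finrank_le (inf_le_left : X ⊓ X.map (g : V →ₗ[F] V) ≤ X) h1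
    have h4 : X ≤ X.map (g : V →ₗ[F] V) := inf_eq_left.1 h3
    have h5 : X = X.map (g : V →ₗ[F] V) := Submodule.eq_of_le_of_finrank_le h4
      (LinearEquiv.finrank_map_eq g X).le
    rw [h5]
    exact ⟨y, hy, rfl⟩
  -- singular vectors orthogonal to two independent vectors of `X`
  have keyA : ∀ x₀ ∈ X, ∀ x₁ ∈ X, x₀ ≠ 0 → (∀ c : F, x₁ ≠ c • x₀) → ∀ z ∈ R, Q z = 0 → polar Q x₀ z = 0 →
      polar Q x₁ z = 0 → z ∈ X := by
    intro x₀ h₀ x₁ h₁ h0 hind z hzR hz hz0 hz1
    by_cases hsp : ∃ s t : F, x₁ = s • z + t • x₀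
    · obtain ⟨s, t, hst⟩ := hsp
      have hs : s ≠ 0 := by
        rintro rfl
        rw [zero_smul, zero_add] at hst
        exact hind t hst
      have h3 : z = s⁻¹ • (x₁ - t • x₀) := by
        rw [hst, add_sub_cancel_right, smul_smul, inv_mul_cancel₀ hs, one_smul]
      rw [h3]
      exact X.smul_mem _ (X.sub_mem h₁ (X.smul_mem _ h₀))
    · push Not at hsp
      obtain ⟨w, hw, hzw, h0w, h1w⟩ := exists_sing_sep (Q := Q.comp R.subtype) hR hd (a := ⟨z, hzR⟩)
        (b := ⟨x₀, hXR h₀⟩) (c := ⟨x₁, hXR h₁⟩) (by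
          intro s t h
          exact hsp s t (congrArg Subtype.val h))
      rw [hpol] at hzw h0w h1w
      change Q (w : V) = 0 at hw
      change polar Q z w = 0 at hzw
      change polar Q x₀ w = 0 at h0w
      change polar Q x₁ w ≠ 0 at h1w
      have h3 := key (siegel Q z w hz hzw) (siegel_mem_Gam hz hzw hzR w.2) ⟨x₀, h₀, h0, by
        rw [siegel_apply, polar_comm Q z x₀, hz0, polar_comm Q _ x₀, h0w]
        simp⟩ x₁ h₁
      rw [siegel_apply, polar_comm Q z x₁, hz1, polar_comm Q _ x₁] at h3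
      simp only [zero_smul, add_zero, mul_zero, sub_zero] at h3
      have h4 : polar Q x₁ w • z ∈ X := by
        have h5 := X.sub_mem h₁ h3
        rwa [sub_sub_cancel] at h5
      have h5 := X.smul_mem (polar Q x₁ w)⁻¹ h4
      rwa [smul_smul, inv_mul_cancel₀ h1w, one_smul] at h5
  -- all vectors orthogonal to two independent vectors of `X`
  have keyB : ∀ x₀ ∈ X, ∀ x₁ ∈ X, x₀ ≠ 0 → (∀ c : F, x₁ ≠ c • x₀) → (∃ p p' : R, Hyp (Q.comp R.subtype) p p' ∧
      polar Q x₀ p = 0 ∧ polar Q x₁ p = 0 ∧ polar Q x₀ p' = 0 ∧ polar Q x₁ p' = 0 ∧ (p : V) ∈ X ∧ (p' : V) ∈ X) ∧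
      ∀ v ∈ R, polar Q x₀ v = 0 → polar Q x₁ v = 0 → v ∈ X := by
    intro x₀ h₀ x₁ h₁ h0 hind
    obtain ⟨p, p', hp, ha, hb, ha', hb'⟩ := exists_hyp2 (Q := Q.comp R.subtype) hR hd ⟨x₀, hXR h₀⟩ ⟨x₁, hXR h₁⟩
    rw [hpol] at ha hb ha' hb'
    change polar Q x₀ p = 0 at ha
    change polar Q x₁ p = 0 at hb
    change polar Q x₀ p' = 0 at ha'
    change polar Q x₁ p' = 0 at hb'
    have hpX : (p : V) ∈ X := keyA x₀ h₀ x₁ h₁ h0 hind p p.2 hp.left ha hb
    have hpX' : (p' : V) ∈ X := keyA x₀ h₀ x₁ h₁ h0 hind p' p'.2 hp.right ha' hb'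
    refine ⟨⟨p, p', hp, ha, hb, ha', hb', hpX, hpX'⟩, ?_⟩
    intro v hv hv0 hv1
    set v' : R := proj (Q.comp R.subtype) p p' ⟨v, hv⟩ with hv'
    have e1 : (v' : V) = v - polar Q p' v • (p : V) - polar Q p v • (p' : V) := by
      rw [hv', proj, hpol, hpol]
      rfl
    have h3 : ((p + v' - (Q.comp R.subtype) v' • p' : R) : V) ∈ X := by
      have hs : (Q.comp R.subtype) (p + v' - (Q.comp R.subtype) v' • p') = 0 :=
        sing_vec hp (polar_proj_left hp _) (polar_proj_right hp _)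
      refine keyA x₀ h₀ x₁ h₁ h0 hind _ (Submodule.coe_mem _) hs ?_ ?_
      · push_cast
        rw [polar_sub_right, polar_add_right, polar_smul_right, e1, polar_sub_right, polar_sub_right,
          polar_smul_right, polar_smul_right, ha, ha', hv0]
        simp
      · push_cast
        rw [polar_sub_right, polar_add_right, polar_smul_right, e1, polar_sub_right, polar_sub_right,
          polar_smul_right, polar_smul_right, hb, hb', hv1]
        simp
    push_cast at h3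
    have h4 : (v' : V) ∈ X := by
      have h5 := X.add_mem (X.sub_mem h3 hpX) (X.smul_mem ((Q.comp R.subtype) v') hpX')
      have h6 : (p : V) + v' - (Q.comp R.subtype) v' • (p' : V) - p + (Q.comp R.subtype) v' • (p' : V) = v' := by
        abel
      rwa [h6] at h5
    rw [e1] at h4
    have h5 := X.add_mem (X.add_mem h4 (X.smul_mem (polar Q p v) hpX')) (X.smul_mem (polar Q p' v) hpX)
    have h6 : v - polar Q p' v • (p : V) - polar Q p v • (p' : V) + polar Q p v • (p' : V) + polar Q p' v • (p : V) =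
      v := by abel
    rwa [h6] at h5
  -- two independent vectors of `X`
  obtain ⟨x₀, h₀, h0⟩ := Submodule.exists_mem_ne_zero_of_ne_bot hX0
  obtain ⟨x₁, h₁, hind⟩ : ∃ x₁ ∈ X, ∀ c : F, x₁ ≠ c • x₀ := by
    by_contra hc
    push Not at hc
    have h3 : X ≤ Submodule.span F {x₀} := by
      intro x hx
      obtain ⟨c, hc⟩ := hc x hx
      exact Submodule.mem_span_singleton.2 ⟨c, hc.symm⟩
    have h4 := (Submodule.finrank_mono h3).trans (finrank_span_singleton h0).le
    omega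
  obtain ⟨⟨p, p', hp, ha, hb, ha', hb', hpX, hpX'⟩, hall⟩ := keyB x₀ h₀ x₁ h₁ h0 hind
  obtain ⟨-, hall'⟩ := keyB p hpX p' hpX' (fun h => hp.left_ne (Subtype.ext h)) (by
    intro c hc
    have h3 := hp.pair
    rw [hpol, hc, polar_smul_right, polar_self_of_sing (show Q (p : V) = 0 from hp.left), smul_zero] at h3
    exact zero_ne_one h3)
  -- `X = R`
  have hRX : R ≤ X := by
    intro v hv
    have h3 : v - polar Q p' v • (p : V) - polar Q p v • (p' : V) ∈ X := by
      have e1 : ((proj (Q.comp R.subtype) p p' ⟨v, hv⟩ : R) : V) =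
          v - polar Q p' v • (p : V) - polar Q p v • (p' : V) := by
        rw [proj, hpol, hpol]
        rfl
      rw [← e1]
      refine hall' _ (Submodule.coe_mem _) ?_ ?_
      · have := polar_proj_left hp ⟨v, hv⟩
        rwa [hpol] at this
      · have := polar_proj_right hp ⟨v, hv⟩
        rwa [hpol] at this
    have h5 := X.add_mem (X.add_mem h3 (X.smul_mem (polar Q p v) hpX')) (X.smul_mem (polar Q p' v) hpX)
    have h6 : v - polar Q p' v • (p : V) - polar Q p v • (p' : V) + polar Q p v • (p' : V) + polar Q p' v • (p : V) =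
      v := by abel
    rwa [h6] at h5
  have := Submodule.finrank_mono hRX
  omega

end Move

end Cfsg.Agent.H604.Spr
end

-- part: H604/Spr/Semi
section
/-!
# S3938, orthogonal groups: the automorphism as an operation on matrices (helper604)

* `tg hM` : conjugation of matrices by the semisimilarity `T`;
* `Bad hM H` : `H` is a proper `tg`-invariant subgroup of `omegaGL Q`;
* `exists_of_bad` : an element of `omegaGL Q` in no bad group gives the element of 3/2-generation;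
* `exists_moved` : for an automorphism `α ≠ 1` and a subspace `W`, some conjugate of `W` is not `T`-invariant.
-/

set_option autoImplicit false
set_option linter.unusedSectionVars false

namespace Cfsg.Agent.H604.Spr

open Cfsg Cfsg.Geo Module
open QuadraticMap hiding proj
open Cfsg.Agent.LieClassical.OrthCore Cfsg.Agent.LieClassical.OrthTrans Cfsg.Agent.LieClassical.OrthSimple
open Cfsg.Agent.LieClassical.OrthFinite
open Cfsg.Agent.AutOrth.SemiSim (IsSemi conjL conjL_apply conjL_apply' conjLHom conjL_mem_E)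
open Cfsg.Agent.H383.Cov (emb emb_injective range_emb map_emb_le map_emb_ne)
open scoped MatrixGroups Matrix

variable {ι : Type} [Fintype ι] [DecidableEq ι] {F : Type} [Field F] {Q : QuadraticForm F (ι → F)}

theorem mem_om (hG : Good Q) {g : GL ι F} : g ∈ omegaGL ⇑Q ↔ glEquiv ι F g ∈ E Q := by
  rw [← hG.commutator_eq_E, ← H925.map_omegaGL]
  constructor
  · intro h
    exact ⟨g, h, rfl⟩
  · rintro ⟨g', h', he⟩
    have : g' = g := (glEquiv ι F).injective he
    rwa [← this]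

theorem exists_om (hG : Good Q) {g : (ι → F) ≃ₗ[F] (ι → F)} (hg : g ∈ E Q) :
    ∃ g' ∈ omegaGL ⇑Q, glEquiv ι F g' = g := by
  refine ⟨(glEquiv ι F).symm g, ?_, (glEquiv ι F).apply_symm_apply g⟩
  rw [mem_om hG, (glEquiv ι F).apply_symm_apply]
  exact hg

variable {T : (ι → F) ≃+ (ι → F)} {σ : F ≃+* F} {μ : F}

/-- conjugation of matrices by a semisimilarity -/
noncomputable def tg (hM : IsSemi Q T σ μ) : GL ι F →* GL ι F :=
  (glEquiv ι F).symm.toMonoidHom.comp ((conjLHom hM).comp (glEquiv ι F).toMonoidHom)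

theorem glEquiv_tg (hM : IsSemi Q T σ μ) (g : GL ι F) : glEquiv ι F (tg hM g) = conjL hM (glEquiv ι F g) :=
  (glEquiv ι F).apply_symm_apply _

theorem tg_apply (hM : IsSemi Q T σ μ) (g : GL ι F) (v : ι → F) :
    (tg hM g : Matrix ι ι F) *ᵥ T v = T ((g : Matrix ι ι F) *ᵥ v) := by
  rw [← glEquiv_apply, glEquiv_tg, conjL_apply', glEquiv_apply]

theorem tg_injective (hM : IsSemi Q T σ μ) : Function.Injective (tg hM) := by
  intro g h hgh
  apply (glEquiv ι F).injective
  apply LinearEquiv.ext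
  intro v
  apply T.injective
  rw [glEquiv_apply, glEquiv_apply, ← tg_apply hM, ← tg_apply hM, hgh]

theorem tg_mem (hG : Good Q) (hM : IsSemi Q T σ μ) {g : GL ι F} (hg : g ∈ omegaGL ⇑Q) : tg hM g ∈ omegaGL ⇑Q := by
  rw [mem_om hG] at hg ⊢
  rw [glEquiv_tg]
  exact conjL_mem_E hM hg

/-- a proper subgroup of `omegaGL Q` invariant under the semisimilarity -/
structure Bad (hM : IsSemi Q T σ μ) (H : Subgroup (GL ι F)) : Prop where
  le : H ≤ omegaGL ⇑Q
  ne : H ≠ omegaGL ⇑Q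
  inv : ∀ h ∈ H, tg hM h ∈ H

theorem Bad.surj [Finite F] {hM : IsSemi Q T σ μ} {H : Subgroup (GL ι F)} (hB : Bad hM H) {h : GL ι F} (hh : h ∈ H) :
    ∃ h' ∈ H, tg hM h' = h := by
  let f : H → H := fun h => ⟨tg hM h, hB.inv h h.2⟩
  have hf : Function.Injective f := fun a b hab => Subtype.ext (tg_injective hM (congrArg Subtype.val hab))
  obtain ⟨h', hh'⟩ := (Finite.injective_iff_surjective.1 hf) ⟨h, hh⟩
  exact ⟨h', h'.2, congrArg Subtype.val hh'⟩

/-- an element of `omegaGL Q` in no bad group -/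
theorem exists_of_bad [Fintype F] (hG : Good Q) (hM : IsSemi Q T σ μ) {α : MulAut (POmega F ⇑Q)}
    (hα : ∀ g g' : ↥(Omega F ⇑Q),
      (∀ v, (((g' : isometryGroup F ⇑Q) : GL ι F) : Matrix ι ι F) *ᵥ T v =
        T ((((g : isometryGroup F ⇑Q) : GL ι F) : Matrix ι ι F) *ᵥ v)) →
      α (QuotientGroup.mk g) = QuotientGroup.mk g')
    {B : GL ι F} (hB : B ∈ omegaGL ⇑Q) (h : ∀ H, Bad hM H → B ∉ H) :
    ∃ x : POmega F ⇑Q, ∀ K : Subgroup (POmega F ⇑Q), x ∈ K → (∀ k ∈ K, α k ∈ K) → K = ⊤ := by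
  obtain ⟨B', rfl⟩ : ∃ B', emb ⇑Q B' = B := by
    rw [← range_emb] at hB
    exact hB
  refine ⟨QuotientGroup.mk B', fun K hK hinv => ?_⟩
  by_contra hne
  set L : Subgroup (Omega F ⇑Q) := K.comap (QuotientGroup.mk' (Subgroup.center (Omega F ⇑Q))) with hL
  have hLne : L ≠ ⊤ := by
    intro h1
    apply hne
    have h2 := Subgroup.map_comap_eq_self_of_surjective
      (QuotientGroup.mk'_surjective (Subgroup.center (Omega F ⇑Q))) K
    rw [← hL, h1, ← MonoidHom.range_eq_map, MonoidHom.range_eq_top.2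
      (QuotientGroup.mk'_surjective (Subgroup.center (Omega F ⇑Q)))] at h2
    exact h2.symm
  refine h (L.map (emb ⇑Q)) ⟨map_emb_le L, map_emb_ne hLne, ?_⟩ ⟨B', hK, rfl⟩
  rintro _ ⟨l, hl, rfl⟩
  have hl' : emb ⇑Q l ∈ omegaGL ⇑Q := by
    rw [← range_emb]
    exact ⟨l, rfl⟩
  have h1 := tg_mem hG hM hl'
  rw [← range_emb] at h1
  obtain ⟨l', hl'⟩ := h1
  refine ⟨l', ?_, hl'⟩
  change QuotientGroup.mk l' ∈ K
  rw [← hα l l' (fun v => ?_)]
  · exact hinv _ hl
  · have h2 := tg_apply hM (emb ⇑Q l) v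
    rw [← hl'] at h2
    exact h2

/-- for an automorphism `α ≠ 1` some conjugate of `W` is not `T`-invariant -/
theorem exists_moved [Fintype F] (hG : Good Q) (hM : IsSemi Q T σ μ) {α : MulAut (POmega F ⇑Q)}
    (hα : ∀ g g' : ↥(Omega F ⇑Q),
      (∀ v, (((g' : isometryGroup F ⇑Q) : GL ι F) : Matrix ι ι F) *ᵥ T v =
        T ((((g : isometryGroup F ⇑Q) : GL ι F) : Matrix ι ι F) *ᵥ v)) →
      α (QuotientGroup.mk g) = QuotientGroup.mk g')
    (hα1 : α ≠ 1) (W : Submodule F (ι → F)) (hW0 : W ≠ ⊥) (hW1 : W ≠ ⊤) :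
    ∃ k ∈ omegaGL ⇑Q, ∃ w, (k : Matrix ι ι F) *ᵥ w ∈ W ∧ (k : Matrix ι ι F) *ᵥ T w ∉ W := by
  by_contra hcon
  push Not at hcon
  have hfin : Finite (ι → F) := inferInstance
  -- the condition for linear automorphisms
  have h1 : ∀ k ∈ E Q, ∀ w, k w ∈ W → k (T w) ∈ W := by
    intro k hk w hw
    obtain ⟨k', hk', rfl⟩ := exists_om hG hk
    exact hcon k' hk' w hw
  have h2 : ∀ k ∈ E Q, ∀ w, k (T w) ∈ W ↔ k w ∈ W := by
    intro k hk w
    refine ⟨fun hw => ?_, h1 k hk w⟩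
    let f : {w // k w ∈ W} → {w // k w ∈ W} := fun w => ⟨T w, h1 k hk w w.2⟩
    have hf : Function.Injective f := fun a b hab => Subtype.ext (T.injective (congrArg Subtype.val hab))
    obtain ⟨w', hw'⟩ := (Finite.injective_iff_surjective.1 hf) ⟨T w, hw⟩
    have h3 : T (w' : ι → F) = T w := congrArg Subtype.val hw'
    rw [← T.injective h3]
    exact w'.2
  let N : Subgroup ((ι → F) ≃ₗ[F] (ι → F)) :=
    { carrier := {n | n ∈ E Q ∧ ∀ k ∈ E Q, ∀ w, k (n w) ∈ W ↔ k w ∈ W}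
      mul_mem' := fun {a b} ha hb => ⟨(E Q).mul_mem ha.1 hb.1, fun k hk w => by
        change k (a (b w)) ∈ W ↔ _
        rw [ha.2 k hk, hb.2 k hk]⟩
      one_mem' := ⟨(E Q).one_mem, fun k _ w => Iff.rfl⟩
      inv_mem' := fun {a} ha => ⟨(E Q).inv_mem ha.1, fun k hk w => by
        rw [← ha.2 k hk]
        change k (a (a.symm w)) ∈ W ↔ _
        rw [LinearEquiv.apply_symm_apply]⟩ }
  have hNE : N ≤ E Q := fun n hn => hn.1
  have hNn : ∀ g ∈ E Q, ∀ n ∈ N, g * n * g⁻¹ ∈ N := by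
    intro g hg n hn
    refine ⟨(E Q).mul_mem ((E Q).mul_mem hg hn.1) ((E Q).inv_mem hg), fun k hk w => ?_⟩
    change (k * g) (n (g.symm w)) ∈ W ↔ _
    rw [hn.2 _ ((E Q).mul_mem hk hg)]
    change k (g (g.symm w)) ∈ W ↔ _
    rw [LinearEquiv.apply_symm_apply]
  have hn : ∀ g ∈ E Q, g⁻¹ * conjL hM g ∈ N := by
    intro g hg
    refine ⟨(E Q).mul_mem ((E Q).inv_mem hg) (conjL_mem_E hM hg), fun k hk w => ?_⟩
    change (k * g⁻¹) (T (g (T.symm w))) ∈ W ↔ _
    rw [h2 _ ((E Q).mul_mem hk ((E Q).inv_mem hg))]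
    change k (g.symm (g (T.symm w))) ∈ W ↔ _
    rw [LinearEquiv.symm_apply_apply, ← h2 k hk, T.apply_symm_apply]
  rcases good_normal_dichotomy hG hNE hNn with h | h
  · apply hα1
    ext x
    obtain ⟨g, rfl⟩ := QuotientGroup.mk_surjective x
    have hg : emb ⇑Q g ∈ omegaGL ⇑Q := by
      rw [← range_emb]
      exact ⟨g, rfl⟩
    have h3 := tg_mem hG hM hg
    rw [← range_emb] at h3
    obtain ⟨g', hg'⟩ := h3
    rw [hα g g' (fun v => by
      have h4 := tg_apply hM (emb ⇑Q g) v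
      rw [← hg'] at h4
      exact h4), MulAut.one_apply]
    rw [eq_comm, QuotientGroup.eq, Subgroup.mem_center_iff]
    obtain ⟨c, hc⟩ := h _ (hn _ ((mem_om hG).1 hg))
    have h5 : ∀ v, ((emb ⇑Q (g⁻¹ * g') : GL ι F) : Matrix ι ι F) *ᵥ v = c • v := by
      intro v
      (simp +singlePass only [← hc v]; (conv => enter [@3, @5, @6]; rw [← glEquiv_tg]); simp only [← hg']; simp +singlePass only [← map_inv]; simp only [← map_mul]; simp only [← map_inv]; simp only [← map_mul]; simp only [glEquiv_apply])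
    intro y
    apply emb_injective
    rw [map_mul _ y, map_mul _ _ y]
    apply (glEquiv ι F).injective
    apply LinearEquiv.ext
    intro v
    simp only [glEquiv_apply, glEquiv_apply, Units.val_mul, Units.val_mul, ← Matrix.mulVec_mulVec, ← Matrix.mulVec_mulVec,
      h5, h5, Matrix.mulVec_smul]
  · have hirr := H925.omegaGL_irreducible (Q := ⇑Q) (H925.isND_of_nondeg hG.nondeg) (by
      have := hG.dim
      rwa [Module.finrank_fintype_fun_eq_card] at this) W (fun g hg w hw => by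
        have h3 : glEquiv ι F g ∈ N := by rw [h]; exact (mem_om hG).1 hg
        exact (h3.2 1 (E Q).one_mem w).2 hw)
    rcases hirr with h3 | h3
    · exact hW0 h3
    · exact hW1 h3

end Cfsg.Agent.H604.Spr
end
end

-- part: H424/Spr/O8/Hh
section
prune_inst 0x5000000044000040000850422201c02a2000422000804000c42000004c04c620d802021a12000171a000005003100000000001000600000040000000118008000009004b1480100200090000000000000000000010000000000000000000000000000000
set_option linter.all false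
open scoped Cfsg.Agent.FastGrp

/-!
# S3938, `PΩ⁺₈(q)`: the end game for automorphisms which preserve the class of the stabiliser of a plane (helper424)
-/

set_option autoImplicit false
set_option linter.unusedSectionVars false

namespace Cfsg.Agent.H424.O8L

open Module QuadraticMap Cfsg Cfsg.Geo
open Cfsg.Agent.LieClassical.OrthCore Cfsg.Agent.LieClassical.OrthFinite
open Cfsg.Agent.LieClassical.OrthTrans (Good)
open Cfsg.Agent.H951 (fx cm Inv mem_fx mem_cm)
open Cfsg.Agent.H884.El (lin)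
open Cfsg.Agent.H383.Cov (fix_of_lt coprime_ne_zero)
open Cfsg.Agent.H604.Spr (mem_om exists_om)
open scoped MatrixGroups Matrix Pointwise

variable {ι : Type} [Fintype ι] [DecidableEq ι] {F : Type} [Field F]

theorem l_mul (g h : GL ι F) (v : ι → F) : lin (g * h) v = lin g (lin h v) := by
  rw [lin, lin, lin, Units.val_mul, Matrix.toLin'_mul, LinearMap.comp_apply]

theorem l_one (v : ι → F) : lin (1 : GL ι F) v = v := by
  rw [lin, Units.val_one, Matrix.toLin'_one, LinearMap.id_apply]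

theorem l_inv (g : GL ι F) (v : ι → F) : lin g⁻¹ (lin g v) = v := by
  rw [← l_mul, inv_mul_cancel, l_one]

theorem l_inv' (g : GL ι F) (v : ι → F) : lin g (lin g⁻¹ v) = v := by
  rw [← l_mul, mul_inv_cancel, l_one]

theorem l_pow (g : GL ι F) (n : ℕ) : lin (g ^ n) = (lin g) ^ n := by
  rw [lin, lin, Units.val_pow_eq_pow_val, Matrix.toLin'_pow]

theorem l_neg (g : GL ι F) (v : ι → F) : lin (-g) v = - lin g v := by
  rw [lin, lin, Units.val_neg, map_neg, LinearMap.neg_apply]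

theorem l_ext {g h : GL ι F} (H : ∀ v, lin g v = lin h v) : g = h := by
  apply Units.ext
  apply Matrix.toLin'.injective
  exact LinearMap.ext H

theorem l_inj (g : GL ι F) : Function.Injective (lin g) := fun v w hvw => by
  rw [← l_inv g v, hvw, l_inv]

theorem l_finrank (g : GL ι F) (W : Submodule F (ι → F)) : finrank F (W.map (lin g)) = finrank F W :=
  (LinearEquiv.finrank_eq (Submodule.equivMapOfInjective (lin g) (l_inj g) W)).symm

/-- the embedding of `Ω` in `GL` -/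
abbrev inc (f : (ι → F) → F) : Omega F f →* GL ι F := (isometryGroup F f).subtype.comp (Omega F f).subtype

theorem inc_inj {f : (ι → F) → F} {y z : Omega F f} (h : inc f y = inc f z) : y = z :=
  Subtype.ext (Subtype.ext h)

theorem inc_mem {f : (ι → F) → F} (y : Omega F f) : inc f y ∈ omegaGL f := ⟨y, y.2, rfl⟩

theorem exists_inc {f : (ι → F) → F} {g : GL ι F} (hg : g ∈ omegaGL f) : ∃ y : Omega F f, inc f y = g := by
  obtain ⟨y, hy, rfl⟩ := hg
  exact ⟨⟨y, hy⟩, rfl⟩

/-- the image in `PΩ` of a subgroup of `GL` -/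
def tpQ (f : (ι → F) → F) (H : Subgroup (GL ι F)) : Subgroup (POmega F f) :=
  (H.comap (inc f)).map (QuotientGroup.mk' (Subgroup.center (Omega F f)))

variable [Fintype F] {Q : QuadraticForm F (ι → F)}

abbrev pj (Q : QuadraticForm F (ι → F)) : Omega F ⇑Q →* POmega F ⇑Q :=
  QuotientGroup.mk' (Subgroup.center (Omega F ⇑Q))

section lift

variable (hG : Good Q)
include hG

theorem five_le : 5 ≤ Fintype.card ι := by
  have := hG.dim
  rwa [Module.finrank_fintype_fun_eq_card] at this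

theorem center_iff (z : Omega F ⇑Q) : z ∈ Subgroup.center (Omega F ⇑Q) ↔ inc ⇑Q z = 1 ∨ inc ⇑Q z = -1 := by
  rw [Cfsg.Agent.LieClassical.OrthCenter.mem_center_omega_iff (Cfsg.Agent.H377.nondegenerate_of_nondeg hG.nondeg)
    (by have := five_le hG; omega) (by
      obtain ⟨w, -, h1, h2⟩ := exists_sing_mem (Q := Q) (⊤ : Submodule F (ι → F)) (by
        rw [finrank_top, Module.finrank_fintype_fun_eq_card]
        have := five_le hG
        omega)
      exact ⟨w, h1, h2⟩)]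
  constructor
  · rintro (h | h)
    · exact Or.inl (Units.ext h)
    · exact Or.inr (Units.ext h)
  · rintro (h | h)
    · exact Or.inl (congrArg Units.val h)
    · exact Or.inr (congrArg Units.val h)

theorem mk_eq {y z : Omega F ⇑Q} (h : pj Q y = pj Q z) : inc ⇑Q z = inc ⇑Q y ∨ inc ⇑Q z = - inc ⇑Q y := by
  have h1 : y⁻¹ * z ∈ Subgroup.center (Omega F ⇑Q) := by
    simp only [← QuotientGroup.ker_mk' (Subgroup.center (Omega F ⇑Q)), MonoidHom.mem_ker, map_mul, map_inv, h,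
      inv_mul_cancel]
  have h2 : inc ⇑Q z = inc ⇑Q y * inc ⇑Q (y⁻¹ * z) := by rw [← map_mul, mul_inv_cancel_left]
  rcases (center_iff hG _).1 h1 with h3 | h3
  · left; rw [h2, h3, mul_one]
  · right; rw [h2, h3, mul_neg, mul_one]

/-- membership in `tpQ H` for `H ∋ -1` -/
theorem mem_tpQ {H : Subgroup (GL ι F)} (hH : (-1 : GL ι F) ∈ H) {y : Omega F ⇑Q} :
    pj Q y ∈ tpQ ⇑Q H ↔ inc ⇑Q y ∈ H := by
  constructor
  · rintro ⟨z, hz, hzy⟩
    have hz' : inc ⇑Q z ∈ H := hz
    rcases mk_eq hG hzy with h | h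
    · rw [h]; exact hz'
    · rw [h, neg_eq_neg_one_mul]
      exact H.mul_mem hH hz'
  · exact fun h => ⟨y, h, rfl⟩

end lift

theorem q_lin {g : GL ι F} (hg : g ∈ omegaGL ⇑Q) (v : ι → F) : Q (lin g v) = Q v := by
  have h := (mem_isometryGroup_iff.1 (Cfsg.Agent.H383.Cov.omegaGL_le _ hg)) v
  exact h

theorem p_lin {g : GL ι F} (hg : g ∈ omegaGL ⇑Q) (v w : ι → F) : polar Q (lin g v) (lin g w) = polar Q v w := by
  simp only [polar, ← map_add, q_lin hg]

/-- the data -/
structure Cf (Q : QuadraticForm F (ι → F)) (x t : GL ι F) (N : ℕ) : Prop where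
  good : Good Q
  four : 4 ≤ Nat.card F
  dim : Fintype.card ι = 8
  odd : Odd N
  cop : N.Coprime (Nat.card F)
  cop' : ∀ i, 1 ≤ i → i < 6 → N.Coprime (Nat.card F ^ i - 1)
  x_mem : x ∈ omegaGL ⇑Q
  t_mem : t ∈ omegaGL ⇑Q
  x_pow : x ^ N = 1
  x_dim : finrank F (cm (lin x)) = 6
  t_fix : ∀ v ∈ cm (lin x), lin t v = v
  t_ne : t ≠ 1

/-- the field `F[J]` -/
structure Fj (Q : QuadraticForm F (ι → F)) (x t : GL ι F) (J : Module.End F (ι → F)) (c d : F) : Prop where
  sq : ∀ v, J (J v) = c • J v - d • v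
  irr : ∀ z : F, z * z - c * z + d ≠ 0
  sim : ∀ v, Q (J v) = d * Q v
  cx : ∀ v, J (lin x v) = lin x (J v)
  ct : ∀ v, J (lin t v) = lin t (J v)

/-- semilinear maps -/
def Sm (J : Module.End F (ι → F)) (c : F) (g : GL ι F) : Prop :=
  (∀ v, lin g (J v) = J (lin g v)) ∨ (∀ v, lin g (J v) = c • lin g v - J (lin g v))

section basic

variable {x t : GL ι F} {N : ℕ} (h : Cf Q x t N)
include h

theorem Cf.orth {v w : ι → F} (hv : v ∈ cm (lin x)) (hw : w ∈ fx (lin x)) : polar Q v w = 0 := by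
  obtain ⟨z, rfl⟩ := mem_cm.1 hv
  have h1 := p_lin h.x_mem z w
  rw [mem_fx.1 hw] at h1
  rw [polar_sub_left, h1, sub_self]

theorem Cf.lin_pow : (lin x) ^ N = 1 := by
  rw [← l_pow, h.x_pow]
  exact LinearMap.ext fun v => l_one v

theorem Cf.compl : IsCompl (fx (lin x)) (cm (lin x)) :=
  H951.isCompl_fx_cm (coprime_ne_zero h.cop) h.lin_pow

theorem Cf.decomp (v : ι → F) : ∃ w ∈ fx (lin x), ∃ u ∈ cm (lin x), v = w + u := by
  have h1 : v ∈ fx (lin x) ⊔ cm (lin x) := by rw [h.compl.sup_eq_top]; trivial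
  obtain ⟨w, hw, u, hu, rfl⟩ := Submodule.mem_sup.1 h1
  exact ⟨w, hw, u, hu, rfl⟩

theorem Cf.W_dim : finrank F (fx (lin x)) = 2 := by
  have h1 := Submodule.finrank_add_eq_of_isCompl h.compl
  rw [h.x_dim, Module.finrank_fintype_fun_eq_card, h.dim] at h1
  omega

theorem Cf.nd {v : ι → F} (hv : v ∈ cm (lin x)) (hp : ∀ w ∈ cm (lin x), polar Q v w = 0) : v = 0 := by
  apply h.good.nondeg
  intro y
  obtain ⟨w, hw, u, hu, rfl⟩ := h.decomp y
  rw [polar_add_right, h.orth hv hw, hp u hu, add_zero]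

theorem Cf.ndW {v : ι → F} (hv : v ∈ fx (lin x)) (hp : ∀ w ∈ fx (lin x), polar Q v w = 0) : v = 0 := by
  apply h.good.nondeg
  intro y
  obtain ⟨w, hw, u, hu, rfl⟩ := h.decomp y
  rw [polar_add_right, hp w hw, polar_comm Q v u, h.orth hu hv, add_zero]

theorem Cf.x_inv {v : ι → F} (hv : v ∈ cm (lin x)) : lin x v ∈ cm (lin x) := H951.inv_cm v hv

theorem Cf.irr (K : Submodule F (ι → F)) (hK : K ≤ cm (lin x)) (hx : ∀ v ∈ K, lin x v ∈ K) :
    K = ⊥ ∨ K = cm (lin x) := by
  by_cases h1 : finrank F K < 6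
  · left
    rw [Submodule.eq_bot_iff]
    intro v hv
    have h2 := fix_of_lt h.lin_pow h.cop h.cop' hx h1 hv
    have h3 : v ∈ fx (lin x) ⊓ cm (lin x) := ⟨mem_fx.2 h2, hK hv⟩
    rw [h.compl.inf_eq_bot] at h3
    exact (Submodule.mem_bot F).1 h3
  · right
    apply Submodule.eq_of_le_of_finrank_le hK
    rw [h.x_dim]
    omega

theorem Cf.exists_proj : ∃ P : Module.End F (ι → F), (∀ v ∈ cm (lin x), P v = v) ∧ (∀ v ∈ fx (lin x), P v = 0) ∧
    ∀ v, P v ∈ cm (lin x) := by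
  have h1 : ∀ v ∈ cm (lin x), LinearMap.ofIsCompl h.compl (0 : fx (lin x) →ₗ[F] (ι → F)) (cm (lin x)).subtype v = v :=
    fun v hv => LinearMap.ofIsCompl_apply_right h.compl ⟨v, hv⟩
  have h2 : ∀ v ∈ fx (lin x), LinearMap.ofIsCompl h.compl (0 : fx (lin x) →ₗ[F] (ι → F)) (cm (lin x)).subtype v = 0 :=
    fun v hv => LinearMap.ofIsCompl_apply_left h.compl ⟨v, hv⟩
  refine ⟨_, h1, h2, fun v => ?_⟩
  obtain ⟨w, hw, u, hu, rfl⟩ := h.decomp v
  rw [map_add, h2 w hw, h1 u hu, zero_add]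
  exact hu

/-- the elements of order `N` which preserve `W` are trivial on `W` -/
theorem Cf.triv {g : GL ι F} (hg : g ^ N = 1) (hW : ∀ w ∈ fx (lin x), lin g w ∈ fx (lin x)) {w : ι → F}
    (hw : w ∈ fx (lin x)) : lin g w = w := by
  have h1 : (lin g) ^ N = 1 := by
    rw [← l_pow, hg]
    exact LinearMap.ext fun v => l_one v
  exact fix_of_lt h1 h.cop h.cop' hW (by rw [h.W_dim]; omega) hw

/-- isometries which preserve `W` preserve `[V, x]` -/
theorem Cf.pres {g : GL ι F} (hg : g ∈ omegaGL ⇑Q) (hW : (fx (lin x)).map (lin g) = fx (lin x)) {v : ι → F}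
    (hv : v ∈ cm (lin x)) : lin g v ∈ cm (lin x) := by
  obtain ⟨w, hw, u, hu, he⟩ := h.decomp (lin g v)
  have h1 : w = 0 := by
    apply h.ndW hw
    intro w' hw'
    rw [← hW] at hw'
    obtain ⟨z, hz, rfl⟩ := hw'
    have h2 : w = lin g v - u := by rw [he]; abel
    have h3 : lin g z ∈ fx (lin x) := by rw [← hW]; exact ⟨z, hz, rfl⟩
    rw [h2, polar_sub_left, p_lin hg, h.orth hv hz, h.orth hu h3, sub_self]
  rw [he, h1, zero_add]
  exact hu

theorem Cf.inv_mem {g : GL ι F} (hW : (fx (lin x)).map (lin g) = fx (lin x)) :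
    (fx (lin x)).map (lin g⁻¹) = fx (lin x) := by
  conv_lhs => rw [← hW]
  ext v
  constructor
  · rintro ⟨_, ⟨w, hw, rfl⟩, rfl⟩
    rw [l_inv]
    exact hw
  · intro hv
    exact ⟨lin g v, ⟨v, hv, rfl⟩, l_inv g v⟩

theorem Cf.t_W : (fx (lin x)).map (lin t) = fx (lin x) := by
  apply Submodule.eq_of_le_of_finrank_eq
  · rintro _ ⟨w, hw, rfl⟩
    obtain ⟨w', hw', u, hu, he⟩ := h.decomp (lin t w)
    have h1 : u = 0 := by
      apply h.nd hu
      intro v hv
      have h2 : u = lin t w - w' := by rw [he]; abel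
      have h3 : polar Q (lin t w) v = 0 := by
        have := p_lin h.t_mem w v
        rw [h.t_fix v hv, polar_comm Q w v, h.orth hv hw] at this
        exact this
      rw [h2, polar_sub_left, h3, polar_comm Q w' v, h.orth hv hw', sub_zero]
    rw [he, h1, add_zero]
    exact hw'
  · exact l_finrank _ _

end basic

section group

variable {x t : GL ι F} {N : ℕ} (h : Cf Q x t N)

/-- a lift of odd order -/
theorem exists_lift (hG : Good Q) (hN : Odd N) {y : POmega F ⇑Q} (hy : y ^ N = 1) :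
    ∃ g : GL ι F, g ∈ omegaGL ⇑Q ∧ g ^ N = 1 ∧ ∃ z : Omega F ⇑Q, pj Q z = y ∧ (g = inc ⇑Q z ∨ g = - inc ⇑Q z) := by
  obtain ⟨z, rfl⟩ := QuotientGroup.mk'_surjective _ y
  have h1 : z ^ N ∈ Subgroup.center (Omega F ⇑Q) := by
    rw [← QuotientGroup.ker_mk' (Subgroup.center (Omega F ⇑Q)), MonoidHom.mem_ker, map_pow]
    exact hy
  rcases (center_iff hG _).1 h1 with h2 | h2
  · refine ⟨inc ⇑Q z, inc_mem z, ?_, z, rfl, Or.inl rfl⟩
    rw [← map_pow]
    exact h2
  · refine ⟨- inc ⇑Q z, ?_, ?_, z, rfl, Or.inr rfl⟩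
    · have h3 : - inc ⇑Q z = inc ⇑Q z * inc ⇑Q (z ^ N) := by rw [h2, mul_neg, mul_one]
      rw [h3]
      exact (omegaGL ⇑Q).mul_mem (inc_mem _) (inc_mem _)
    · rw [hN.neg_pow, ← map_pow, h2, neg_neg]

/-- exact commutation -/
theorem exact_comm (hG : Good Q) (hN : Odd N) {τ z : Omega F ⇑Q} (hz : (inc ⇑Q z) ^ N = 1)
    (hc : pj Q τ * pj Q z = pj Q z * pj Q τ) : inc ⇑Q τ * inc ⇑Q z = inc ⇑Q z * inc ⇑Q τ := by
  rw [← map_mul, ← map_mul] at hc
  rcases mk_eq hG hc with h1 | h1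
  · rw [map_mul, map_mul] at h1
    exact h1.symm
  · rw [map_mul, map_mul] at h1
    -- `z τ = - τ z`
    have h2 : inc ⇑Q τ * inc ⇑Q z * (inc ⇑Q τ)⁻¹ = - inc ⇑Q z := by
      rw [mul_inv_eq_iff_eq_mul, neg_mul, h1, neg_neg]
    have h3 : (inc ⇑Q τ * inc ⇑Q z * (inc ⇑Q τ)⁻¹) ^ N = 1 := by
      rw [conj_pow, hz, mul_one, mul_inv_cancel]
    rw [h2, hN.neg_pow, hz] at h3
    have h4 : inc ⇑Q z * inc ⇑Q τ = (-1 : GL ι F) * (inc ⇑Q τ * inc ⇑Q z) := by rw [h1, neg_one_mul]
    rw [h3, one_mul] at h4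
    exact h4.symm

include h

theorem Cf.one_comm {K₁ : Subgroup (POmega F ⇑Q)}
    (m₁ : ∀ y : Omega F ⇑Q, pj Q y ∈ K₁ ↔ (fx (lin x)).map (lin (inc ⇑Q y)) = fx (lin x)) {t' : Omega F ⇑Q}
    (ht' : inc ⇑Q t' = t) {y : POmega F ⇑Q} (hy : y ∈ K₁) (hN : y ^ N = 1) : y * pj Q t' = pj Q t' * y := by
  obtain ⟨g, hg, hgN, z, rfl, hz⟩ := exists_lift h.good h.odd hN
  have hW : (fx (lin x)).map (lin g) = fx (lin x) := by
    rcases hz with rfl | rfl
    · exact (m₁ z).1 hy
    · have h1 := (m₁ z).1 hy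
      have h2 : lin (-inc ⇑Q z) = -lin (inc ⇑Q z) := LinearMap.ext fun v => l_neg _ v
      rw [h2, Submodule.map_neg]
      exact h1
  have hgt : g * t = t * g := by
    apply l_ext
    intro v
    obtain ⟨w, hw, u, hu, rfl⟩ := h.decomp v
    have e1 : lin t w ∈ fx (lin x) := by rw [← h.t_W]; exact ⟨w, hw, rfl⟩
    have e2 : ∀ w ∈ fx (lin x), lin g w = w := fun w hw => h.triv hgN (fun w hw => by rw [← hW]; exact ⟨w, hw, rfl⟩) hw
    rw [l_mul, l_mul, map_add, map_add, map_add, map_add, e2 _ e1, e2 _ hw, h.t_fix u hu, h.t_fix _ (h.pres hg hW hu)]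
  rw [← map_mul, ← map_mul]
  have h3 : z * t' = t' * z := by
    apply inc_inj
    rw [map_mul, map_mul, ht']
    rcases hz with rfl | rfl
    · exact hgt
    · rw [neg_mul, mul_neg, neg_inj] at hgt
      exact hgt
  rw [h3]

end group

section scal

variable {x t : GL ι F} {N : ℕ} (h : Cf Q x t N)
include h

theorem Cf.exists_ns : ∃ u ∈ cm (lin x), Q u ≠ 0 := by
  by_contra hcon
  push Not at hcon
  have h1 : cm (lin x) = ⊥ := by
    rw [Submodule.eq_bot_iff]
    intro v hv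
    apply h.nd hv
    intro w hw
    rw [polar, hcon _ ((cm (lin x)).add_mem hv hw), hcon v hv, hcon w hw]
    ring
  have h2 := h.x_dim
  rw [h1, finrank_bot] at h2
  omega

theorem Cf.J_W {J : Module.End F (ι → F)} (hJ : ∀ v, J (lin x v) = lin x (J v)) {v : ι → F} (hv : v ∈ fx (lin x)) :
    J v ∈ fx (lin x) := by
  rw [mem_fx, ← hJ, mem_fx.1 hv]

theorem Cf.J_A {J : Module.End F (ι → F)} (hJ : ∀ v, J (lin x v) = lin x (J v)) {v : ι → F} (hv : v ∈ cm (lin x)) :
    J v ∈ cm (lin x) := by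
  obtain ⟨z, rfl⟩ := mem_cm.1 hv
  exact mem_cm.2 ⟨J z, by rw [map_sub, hJ]⟩

theorem Cf.aniso {J : Module.End F (ι → F)} {c d : F} (f : Fj Q x t J c d) {w : ι → F} (hw : w ∈ fx (lin x))
    (h0 : w ≠ 0) : Q w ≠ 0 := by
  intro hQ
  exact h0 (h.ndW hw (O8L.aniso f.sq f.irr f.sim (fun v hv => h.J_W f.cx hv) h.W_dim.le hw h0 hQ))

/-- **a reflection of `[V, x]`** -/
theorem Cf.refl_el {J : Module.End F (ι → F)} {c d : F} (f : Fj Q x t J c d) {u : ι → F} (hu : u ∈ cm (lin x))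
    (hQ : Q u ≠ 0) : ∃ g ∈ omegaGL ⇑Q, ∃ w ∈ fx (lin x), Q w ≠ 0 ∧ (∀ v ∈ cm (lin x), lin g v = reflLin Q u v) ∧
      (∀ v ∈ fx (lin x), lin g v = reflLin Q w v) ∧ (fx (lin x)).map (lin g) = fx (lin x) := by
  obtain ⟨w, hw, hwu⟩ := exists_val (Q := Q) h.W_dim (fun w hw h0 => h.aniso f hw h0) (Q u)
  have hQw : Q w ≠ 0 := by rw [hwu]; exact hQ
  obtain ⟨g, hg, hge⟩ := exists_om h.good (h.good.refl_mul_refl_mem hQw hQ hwu)
  have hgv : ∀ v, lin g v = reflLin Q u (reflLin Q w v) := by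
    intro v
    rw [lin, Matrix.toLin'_apply, ← glEquiv_apply, hge, LinearEquiv.mul_apply]
    rfl
  have e1 : ∀ v ∈ cm (lin x), lin g v = reflLin Q u v := by
    intro v hv
    have h2 : reflLin Q w v = v := by
      rw [reflLin_apply, polar_comm Q w v, h.orth hv hw, mul_zero, zero_smul, sub_zero]
    rw [hgv, h2]
  have e2 : ∀ v ∈ fx (lin x), lin g v = reflLin Q w v := by
    intro v hv
    have h3 : reflLin Q w v ∈ fx (lin x) := by
      rw [reflLin_apply]
      exact (fx (lin x)).sub_mem hv ((fx (lin x)).smul_mem _ hw)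
    rw [hgv, reflLin_apply u, h.orth hu h3, mul_zero, zero_smul, sub_zero]
  have e3 : (fx (lin x)).map (lin g) ≤ fx (lin x) := by
    rintro _ ⟨v, hv, rfl⟩
    rw [e2 v hv, reflLin_apply]
    exact (fx (lin x)).sub_mem hv ((fx (lin x)).smul_mem _ hw)
  exact ⟨g, hg, w, hw, hQw, e1, e2, Submodule.eq_of_le_of_finrank_eq e3 (l_finrank _ _)⟩

/-- **the scalar** -/
theorem Cf.scal {J : Module.End F (ι → F)} {c d : F} (f : Fj Q x t J c d) {τ : GL ι F} (hτ : τ ∈ omegaGL ⇑Q)
    (hW : (fx (lin x)).map (lin τ) = fx (lin x))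
    (hc : ∀ g ∈ omegaGL ⇑Q, (fx (lin x)).map (lin g) = fx (lin x) → τ * (g⁻¹ * x * g) = (g⁻¹ * x * g) * τ) :
    ∃ l : F, ∀ v ∈ cm (lin x), lin τ v = l • v := by
  obtain ⟨u₀, hu₀, hQ₀⟩ := h.exists_ns
  have hx1 : τ * x = x * τ := by
    have h1 := hc 1 (omegaGL ⇑Q).one_mem (by
      have : lin (1 : GL ι F) = LinearMap.id := LinearMap.ext fun v => l_one v
      rw [this, Submodule.map_id])
    rw [inv_one, one_mul, mul_one] at h1
    exact h1
  refine exists_scal h.four (fun u hu hQ => ?_) hu₀ hQ₀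
  obtain ⟨g, hg, w, hw, hQw, e1, e2, hgW⟩ := h.refl_el f hu hQ
  have hR : ∀ v ∈ cm (lin x), reflLin Q u v ∈ cm (lin x) := by
    intro v hv
    rw [reflLin_apply]
    exact (cm (lin x)).sub_mem hv ((cm (lin x)).smul_mem _ hu)
  have e3 : ∀ v ∈ cm (lin x), lin g⁻¹ v = reflLin Q u v := by
    intro v hv
    apply l_inj g
    rw [l_inv', e1 _ (hR v hv), reflLin_reflLin hQ]
  have hk : ∀ v, lin (g * τ * g⁻¹) (lin x v) = lin x (lin (g * τ * g⁻¹) v) := by
    intro v
    rw [← l_mul, ← l_mul]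
    have h2 := hc g hg hgW
    have h3 : g * τ * g⁻¹ * x = x * (g * τ * g⁻¹) := by
      calc g * τ * g⁻¹ * x = g * (τ * (g⁻¹ * x * g)) * g⁻¹ := by group
        _ = g * ((g⁻¹ * x * g) * τ) * g⁻¹ := by rw [h2]
        _ = x * (g * τ * g⁻¹) := by group
    rw [h3]
  have hkv : ∀ v ∈ cm (lin x), lin (g * τ * g⁻¹) v = reflLin Q u (lin τ (reflLin Q u v)) := by
    intro v hv
    rw [l_mul, l_mul, e3 v hv, e1 _ (h.pres hτ hW (hR v hv))]
  refine exists_eig (X := lin x) (fun v hv => h.nd hv) (by rw [h.x_dim]; norm_num) (fun v hv => h.x_inv hv) h.irr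
    (fun v _ => ?_) hu hQ (fun v hv => ?_)
  · rw [← l_mul, ← l_mul, hx1]
  · rw [← hkv _ (h.x_inv hv), ← hkv v hv, hk]

end scal

/-- an element of the normaliser of `F[J]` which is a scalar on a subspace of dimension six -/
theorem range_inv (hd : Fintype.card ι = 8) {J T : Module.End F (ι → F)} {c d l : F}
    (sq : ∀ v, J (J v) = c • J v - d • v) (irr : ∀ z : F, z * z - c * z + d ≠ 0) (hl : l ≠ 0)
    {A W : Submodule F (ι → F)} (hA : finrank F A = 6) (hT : ∀ v ∈ A, T v = l • v)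
    (hS : (∀ v, T (J v) = J (T v)) ∨ (∀ v, T (J v) = c • T v - J (T v))) (hR : ∀ v, T v - l • v ∈ W)
    (hW : finrank F W = 2) (hne : ∃ v, T v ≠ l • v) : ∀ w ∈ W, J w ∈ W := by
  rcases hS with hS | hS
  · have h1 : LinearMap.range (T - l • (1 : Module.End F (ι → F))) ≤ W := by
      rintro _ ⟨v, rfl⟩
      exact hR v
    have h2 : ∀ w ∈ LinearMap.range (T - l • (1 : Module.End F (ι → F))),
        J w ∈ LinearMap.range (T - l • (1 : Module.End F (ι → F))) := by
      rintro _ ⟨v, rfl⟩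
      refine ⟨J v, ?_⟩
      change T (J v) - l • J v = J (T v - l • v)
      rw [hS, map_sub, map_smul]
    obtain ⟨v, hv⟩ := hne
    have h3 := two_le sq irr h2 (v := T v - l • v) ⟨v, rfl⟩ (sub_ne_zero.2 hv)
    have h4 := Submodule.eq_of_le_of_finrank_le h1 (by rw [hW]; exact h3)
    rw [← h4]
    exact h2
  · exfalso
    have hinj : Function.Injective J := by
      rw [injective_iff_map_eq_zero]
      intro v hv
      by_contra hv0
      apply no_eig sq irr hv0 0
      rw [hv, zero_smul]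
    have h1 : finrank F (A.map J) = 6 := by
      rw [← hA]
      exact (LinearEquiv.finrank_eq (Submodule.equivMapOfInjective J hinj A)).symm
    have h2 := Submodule.finrank_sup_add_finrank_inf_eq A (A.map J)
    have h3 : finrank F ↥(A ⊔ A.map J) ≤ 8 := by
      have := Submodule.finrank_le (A ⊔ A.map J)
      rwa [Module.finrank_fintype_fun_eq_card, hd] at this
    have h4 : A ⊓ A.map J ≠ ⊥ := by
      intro h5
      rw [h5, finrank_bot] at h2
      omega
    obtain ⟨_, ⟨g1, v, hv, rfl⟩, h0⟩ := (Submodule.ne_bot_iff _).1 h4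
    have hv0 : v ≠ 0 := by
      rintro rfl
      exact h0 (map_zero J)
    have h5 := hS v
    have h6 : T (J v) = l • J v := hT _ g1
    rw [h6, hT v hv, map_smul] at h5
    have h7 : (2 : F) • J v = c • v := by
      have h8 : l • ((2 : F) • J v) = l • (c • v) := by
        have : l • ((2 : F) • J v) = l • J v + l • J v := by module
        rw [this]
        nth_rewrite 1 [h5]
        module
      exact smul_right_injective _ hl h8
    by_cases h8 : (2 : F) = 0
    · rw [h8, zero_smul] at h7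
      have hc : c = 0 := (smul_eq_zero.1 h7.symm).resolve_right hv0
      have : CharP F 2 := CharTwo.of_one_ne_zero_of_two_eq_zero one_ne_zero h8
      obtain ⟨z, hz⟩ := FiniteField.isSquare_of_char_two (F := F) (ringChar.eq F 2) d
      apply irr z
      rw [← hz, hc, zero_mul, sub_zero]
      have h9 : (2 : F) * d = 0 := by rw [h8, zero_mul]
      linear_combination h9
    · apply no_eig sq irr hv0 ((2 : F)⁻¹ * c)
      rw [mul_smul, ← h7, smul_smul, inv_mul_cancel₀ h8, one_smul]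

section main

variable {x t : GL ι F} {N : ℕ} (h : Cf Q x t N)
include h

/-- a conjugate of `t` by a reflection commutes with `J` -/
theorem Cf.conj_comm {J : Module.End F (ι → F)} {c d : F} (f : Fj Q x t J c d) {u w : ι → F} {g : GL ι F}
    (hu : u ∈ cm (lin x)) (hQ : Q u ≠ 0) (hw : w ∈ fx (lin x)) (hQw : Q w ≠ 0)
    (e1 : ∀ v ∈ cm (lin x), lin g v = reflLin Q u v) (e2 : ∀ v ∈ fx (lin x), lin g v = reflLin Q w v) (v : ι → F) :
    J (lin (g⁻¹ * t * g) v) = lin (g⁻¹ * t * g) (J v) := by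
  have hR : ∀ v ∈ cm (lin x), reflLin Q u v ∈ cm (lin x) := by
    intro v hv
    rw [reflLin_apply]
    exact (cm (lin x)).sub_mem hv ((cm (lin x)).smul_mem _ hu)
  have hRw : ∀ v ∈ fx (lin x), reflLin Q w v ∈ fx (lin x) := by
    intro v hv
    rw [reflLin_apply]
    exact (fx (lin x)).sub_mem hv ((fx (lin x)).smul_mem _ hw)
  have i1 : ∀ v ∈ cm (lin x), lin g⁻¹ v = reflLin Q u v := by
    intro v hv
    apply l_inj g
    rw [l_inv', e1 _ (hR v hv), reflLin_reflLin hQ]
  have i2 : ∀ v ∈ fx (lin x), lin g⁻¹ v = reflLin Q w v := by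
    intro v hv
    apply l_inj g
    rw [l_inv', e2 _ (hRw v hv), reflLin_reflLin hQw]
  have ht : ∀ v ∈ fx (lin x), lin t v ∈ fx (lin x) := by
    intro v hv
    rw [← h.t_W]
    exact ⟨v, hv, rfl⟩
  have hJw : ∀ v ∈ fx (lin x), J (reflLin Q w v) = reflLin Q w (c • v - J v) := by
    intro v hv
    have h1 := refl_J f.sq f.irr f.sim (fun v hv => h.J_W f.cx hv) h.W_dim.le hw hQw hv
    rw [← h1, reflLin_reflLin hQw]
  have hJw2 : ∀ v ∈ fx (lin x), reflLin Q w (J v) = c • reflLin Q w v - J (reflLin Q w v) := by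
    intro v hv
    have h1 := refl_J f.sq f.irr f.sim (fun v hv => h.J_W f.cx hv) h.W_dim.le hw hQw (hRw v hv)
    rw [reflLin_reflLin hQw] at h1
    exact h1
  obtain ⟨w', hw', u', hu', rfl⟩ := h.decomp v
  have k1 : lin (g⁻¹ * t * g) u' = u' := by
    rw [l_mul, l_mul, e1 u' hu', h.t_fix _ (hR u' hu'), i1 _ (hR u' hu'), reflLin_reflLin hQ]
  have k2 : lin (g⁻¹ * t * g) (J u') = J u' := by
    have := h.J_A f.cx hu'
    rw [l_mul, l_mul, e1 _ this, h.t_fix _ (hR _ this), i1 _ (hR _ this), reflLin_reflLin hQ]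
  have k3 : ∀ v ∈ fx (lin x), lin (g⁻¹ * t * g) v = reflLin Q w (lin t (reflLin Q w v)) := by
    intro v hv
    rw [l_mul, l_mul, e2 v hv, i2 _ (ht _ (hRw v hv))]
  rw [map_add, map_add, map_add, map_add, k1, k2, k3 w' hw', k3 _ (h.J_W f.cx hw'), hJw _ (ht _ (hRw w' hw')),
    hJw2 w' hw', map_sub (lin t), map_smul (lin t), f.ct]

/-- the key -/
theorem Cf.key {J : Module.End F (ι → F)} {c d : F} (f : Fj Q x t J c d) {K : Subgroup (POmega F ⇑Q)}
    (m : ∀ y : Omega F ⇑Q, pj Q y ∈ K ↔ Sm J c (inc ⇑Q y)) (a : MulAut (POmega F ⇑Q)) {Y τ t' g : Omega F ⇑Q}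
    (ht' : inc ⇑Q t' = t) (ha : a (pj Q t') = pj Q (Y * τ * Y⁻¹)) {l : F} (hl : l ≠ 0)
    (hτA : ∀ v ∈ cm (lin x), lin (inc ⇑Q τ) v = l • v) (hτW : (fx (lin x)).map (lin (inc ⇑Q τ)) = fx (lin x))
    (hne : ∃ v, lin (inc ⇑Q τ) v ≠ l • v)
    (hg : ∀ v, J (lin ((inc ⇑Q g)⁻¹ * t * inc ⇑Q g) v) = lin ((inc ⇑Q g)⁻¹ * t * inc ⇑Q g) (J v))
    (hK : a • (H424.Spr.c (pj Q g) • K) = H424.Spr.c (pj Q g) • K) :
    ∀ w ∈ (fx (lin x)).map (lin ((inc ⇑Q g)⁻¹ * inc ⇑Q Y)), J w ∈ (fx (lin x)).map (lin ((inc ⇑Q g)⁻¹ * inc ⇑Q Y)) := by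
  have h1 : pj Q t' ∈ H424.Spr.c (pj Q g) • K := by
    rw [Subgroup.mem_pointwise_smul_iff_inv_smul_mem, ← map_inv]
    change (pj Q g)⁻¹ * pj Q t' * (pj Q g)⁻¹⁻¹ ∈ K
    (simp only [inv_inv]; simp only [← map_inv]; (conv => enter [@5, @5]; rw [← map_mul]); rewrite [← map_mul, m, map_mul]; simp only [map_mul]; simp only [ht']; rewrite [map_inv])
    exact Or.inl fun v => (hg v).symm
  have h2 : a (pj Q t') ∈ H424.Spr.c (pj Q g) • K := by
    rw [← hK]
    exact H424.Spr.mem_smul a h1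
  simp only [ha, Subgroup.mem_pointwise_smul_iff_inv_smul_mem, ← map_inv Spr.c ((pj Q) g)] at h2
  change (pj Q g)⁻¹ * pj Q (Y * τ * Y⁻¹) * (pj Q g)⁻¹⁻¹ ∈ K at h2
  simp only [inv_inv, ← map_inv, ← map_mul, ← map_mul, m] at h2
  set M : GL ι F := (inc ⇑Q g)⁻¹ * inc ⇑Q Y with hM
  have h3 : inc ⇑Q (g⁻¹ * (Y * τ * Y⁻¹) * g) = M * inc ⇑Q τ * M⁻¹ := by
    simp only [map_mul, map_inv, hM]
    group
  rw [h3] at h2
  have hT : ∀ v, lin (M * inc ⇑Q τ * M⁻¹) v = lin M (lin (inc ⇑Q τ) (lin M⁻¹ v)) := by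
    intro v
    rw [l_mul, l_mul]
  refine range_inv (A := (cm (lin x)).map (lin M)) (W := (fx (lin x)).map (lin M)) h.dim f.sq f.irr hl
    (by rw [l_finrank, h.x_dim]) ?_ h2 ?_ (by rw [l_finrank, h.W_dim]) ?_
  · rintro _ ⟨v, hv, rfl⟩
    rw [hT, l_inv, hτA v hv, map_smul]
  · intro v
    refine ⟨lin (inc ⇑Q τ) (lin M⁻¹ v) - l • lin M⁻¹ v, ?_, ?_⟩
    · obtain ⟨w, hw, u, hu, he⟩ := h.decomp (lin M⁻¹ v)
      rw [he, map_add, hτA u hu, smul_add]
      have h4 : lin (inc ⇑Q τ) w ∈ fx (lin x) := by rw [← hτW]; exact ⟨w, hw, rfl⟩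
      have h5 : lin (inc ⇑Q τ) w + l • u - (l • w + l • u) = lin (inc ⇑Q τ) w - l • w := by abel
      rw [h5]
      exact (fx (lin x)).sub_mem h4 ((fx (lin x)).smul_mem l hw)
    · rw [hT, map_sub, map_smul, l_inv']
  · obtain ⟨v, hv⟩ := hne
    refine ⟨lin M v, fun h4 => hv ?_⟩
    rw [hT, l_inv, ← map_smul] at h4
    exact l_inj M h4

set_option maxHeartbeats 1600000 in
/-- **the end game** -/
theorem Cf.end_game {J J' : Module.End F (ι → F)} {c d : F} (f : Fj Q x t J c d) (f' : Fj Q x t J' c d)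
    (agree : ∀ v ∈ cm (lin x), J' v = J v) {K₁ K₂ K₃ : Subgroup (POmega F ⇑Q)}
    (m₁ : ∀ y : Omega F ⇑Q, pj Q y ∈ K₁ ↔ (fx (lin x)).map (lin (inc ⇑Q y)) = fx (lin x))
    (m₂ : ∀ y : Omega F ⇑Q, pj Q y ∈ K₂ ↔ Sm J c (inc ⇑Q y))
    (m₃ : ∀ y : Omega F ⇑Q, pj Q y ∈ K₃ ↔ Sm J' c (inc ⇑Q y)) (a : MulAut (POmega F ⇑Q)) {y₀ : POmega F ⇑Q}
    (h1 : a • K₁ = H424.Spr.c y₀ • K₁) (hne : a • K₁ ≠ K₁) :
    ∃ y ∈ K₁, a • (H424.Spr.c y • K₂) ≠ H424.Spr.c y • K₂ ∧ a • (H424.Spr.c y • K₃) ≠ H424.Spr.c y • K₃ := by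
  obtain ⟨t', ht'⟩ := exists_inc h.t_mem
  obtain ⟨Y, rfl⟩ := QuotientGroup.mk'_surjective _ y₀
  set b : MulAut (POmega F ⇑Q) := (H424.Spr.c (pj Q Y))⁻¹ * a with hb
  have hbK : b • K₁ = K₁ := by
    simp only [hb, mul_smul, h1]
    exact inv_smul_smul _ _
  have hbK' : b⁻¹ • K₁ = K₁ := by
    conv_lhs => rw [← hbK]
    exact inv_smul_smul _ _
  have ht1 : pj Q t' ∈ K₁ := by
    rw [m₁, ht']
    exact h.t_W
  have hτ1 : b (pj Q t') ∈ K₁ := by
    have := H424.Spr.mem_smul b ht1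
    rwa [hbK] at this
  obtain ⟨τ, hτ⟩ := QuotientGroup.mk'_surjective _ (b (pj Q t'))
  have hτW : (fx (lin x)).map (lin (inc ⇑Q τ)) = fx (lin x) := by
    rw [← m₁]
    change QuotientGroup.mk' _ τ ∈ K₁
    rw [hτ]
    exact hτ1
  -- the scalar
  obtain ⟨l, hl⟩ := h.scal f (inc_mem τ) hτW (by
    intro g hg hgW
    obtain ⟨g', rfl⟩ := exists_inc hg
    obtain ⟨x', hx'⟩ := exists_inc h.x_mem
    have hz : inc ⇑Q (g'⁻¹ * x' * g') = (inc ⇑Q g')⁻¹ * x * inc ⇑Q g' := by
      simp only [map_mul, map_mul, map_inv, hx']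
    have hzN : (inc ⇑Q (g'⁻¹ * x' * g')) ^ N = 1 := by
      have e : (inc ⇑Q g')⁻¹ * x * inc ⇑Q g' = (inc ⇑Q g')⁻¹ * x * ((inc ⇑Q g')⁻¹)⁻¹ := by rw [inv_inv]
      rw [hz, e, conj_pow, h.x_pow, mul_one, mul_inv_cancel]
    have hzN' : (g'⁻¹ * x' * g') ^ N = 1 := by
      apply inc_inj (f := ⇑Q)
      rw [map_pow, hzN, map_one]
    have hzW : (fx (lin x)).map (lin ((inc ⇑Q g')⁻¹ * x * inc ⇑Q g')) = fx (lin x) := by
      have e : ∀ k k' : GL ι F, (fx (lin x)).map (lin (k * k')) = ((fx (lin x)).map (lin k')).map (lin k) := by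
        intro k k'
        rw [← Submodule.map_comp]
        congr 1
        exact LinearMap.ext fun v => l_mul k k' v
      rw [e, hgW, e]
      have e2 : (fx (lin x)).map (lin x) = fx (lin x) := by
        apply le_antisymm
        · rintro _ ⟨v, hv, rfl⟩
          rw [mem_fx.1 hv]
          exact hv
        · intro v hv
          exact ⟨v, hv, mem_fx.1 hv⟩
      rw [e2]
      exact h.inv_mem hgW
    have hzK : pj Q (g'⁻¹ * x' * g') ∈ K₁ := by
      rw [m₁, hz]
      exact hzW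
    have h3 : b⁻¹ (pj Q (g'⁻¹ * x' * g')) ∈ K₁ := by
      have := H424.Spr.mem_smul b⁻¹ hzK
      rwa [hbK'] at this
    have h4 : (b⁻¹ (pj Q (g'⁻¹ * x' * g'))) ^ N = 1 := by
      simp only [← map_pow, ← map_pow, hzN', map_one, map_one]
    have h5 := congrArg b (h.one_comm m₁ ht' h3 h4)
    simp only [map_mul b, map_mul b, MulAut.apply_inv_self, ← hτ] at h5
    rw [← hz]
    exact exact_comm h.good h.odd hzN h5.symm)
  obtain ⟨u₀, hu₀, hQ₀⟩ := h.exists_ns
  have hl0 : l ≠ 0 := by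
    rintro rfl
    have h3 := q_lin (inc_mem τ) u₀
    rw [hl u₀ hu₀, zero_smul, QuadraticMap.map_zero] at h3
    exact hQ₀ h3.symm
  have hne' : ∃ v, lin (inc ⇑Q τ) v ≠ l • v := by
    by_contra hcon
    push Not at hcon
    have h3 : τ ∈ Subgroup.center (Omega F ⇑Q) := by
      rw [Subgroup.mem_center_iff]
      intro g
      apply inc_inj
      apply l_ext
      intro v
      simp only [map_mul, map_mul, l_mul, l_mul, hcon, hcon, map_smul]
    have h4 : pj Q τ = 1 := by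
      rw [← MonoidHom.mem_ker, QuotientGroup.ker_mk']
      exact h3
    have h5 : pj Q t' = 1 := by
      apply b.injective
      rw [map_one, ← h4]
      exact hτ.symm
    have h6 : t' ∈ Subgroup.center (Omega F ⇑Q) := by
      rwa [← MonoidHom.mem_ker, QuotientGroup.ker_mk'] at h5
    rcases (center_iff h.good _).1 h6 with h7 | h7
    · exact h.t_ne (by rw [← ht', h7])
    · have h8 := h.t_fix u₀ hu₀
      rw [← ht', h7, l_neg, l_one] at h8
      have h9 : (2 : F) • u₀ = 0 := by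
        have : (2 : F) • u₀ = u₀ - (-u₀) := by module
        rw [this, h8, sub_self]
      have hu0 : u₀ ≠ 0 := by
        rintro rfl
        exact hQ₀ (QuadraticMap.map_zero Q)
      have h10 : (2 : F) = 0 := (smul_eq_zero.1 h9).resolve_right hu0
      apply h.t_ne
      rw [← ht', h7]
      apply l_ext
      intro v
      rw [l_neg, l_one]
      have : -v = v - (2 : F) • v := by module
      rw [this, h10, zero_smul, sub_zero]
  have hat : a (pj Q t') = pj Q (Y * τ * Y⁻¹) := by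
    have h3 : a = H424.Spr.c (pj Q Y) * b := by rw [hb, mul_inv_cancel_left]
    simp only [h3, MulAut.mul_apply, ← hτ, map_mul, map_mul, map_inv]
    rfl
  by_contra hcon
  push Not at hcon
  -- the projection
  obtain ⟨P, hPA, hPW, hPm⟩ := h.exists_proj
  have hPc : ∀ S : Module.End F (ι → F), (∀ v ∈ cm (lin x), S v ∈ cm (lin x)) → (∀ v ∈ fx (lin x), S v ∈ fx (lin x)) →
      ∀ v, P (S v) = S (P v) := by
    intro S hSA hSW v
    obtain ⟨w, hw, u, hu, rfl⟩ := h.decomp v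
    rw [map_add, map_add, map_add, hPA u hu, hPW w hw, hPW _ (hSW w hw), hPA _ (hSA u hu), zero_add, zero_add]
  set U : Submodule F (ι → F) := ((fx (lin x)).map (lin (inc ⇑Q Y))).map P with hU
  have star : ∀ g : Omega F ⇑Q, (fx (lin x)).map (lin (inc ⇑Q g)) = fx (lin x) →
      (∀ v, J (lin ((inc ⇑Q g)⁻¹ * t * inc ⇑Q g) v) = lin ((inc ⇑Q g)⁻¹ * t * inc ⇑Q g) (J v)) →
      (∀ v, J' (lin ((inc ⇑Q g)⁻¹ * t * inc ⇑Q g) v) = lin ((inc ⇑Q g)⁻¹ * t * inc ⇑Q g) (J' v)) →
      ∀ v ∈ U.map (lin (inc ⇑Q g)⁻¹), J v ∈ U.map (lin (inc ⇑Q g)⁻¹) := by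
    intro g hgW hg hg'
    have hgA : ∀ v ∈ cm (lin x), lin (inc ⇑Q g)⁻¹ v ∈ cm (lin x) := by
      intro v hv
      exact h.pres ((omegaGL ⇑Q).inv_mem (inc_mem g)) (h.inv_mem hgW) hv
    have hgW' : ∀ v ∈ fx (lin x), lin (inc ⇑Q g)⁻¹ v ∈ fx (lin x) := by
      intro v hv
      rw [← h.inv_mem hgW]
      exact ⟨v, hv, rfl⟩
    -- invariance of the projection
    have main : ∀ J₁ : Module.End F (ι → F), (∀ v, J₁ (lin x v) = lin x (J₁ v)) →
        (∀ v ∈ cm (lin x), J₁ v = J v) → (∀ w ∈ (fx (lin x)).map (lin ((inc ⇑Q g)⁻¹ * inc ⇑Q Y)),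
          J₁ w ∈ (fx (lin x)).map (lin ((inc ⇑Q g)⁻¹ * inc ⇑Q Y))) →
        ∀ v ∈ U.map (lin (inc ⇑Q g)⁻¹), J v ∈ U.map (lin (inc ⇑Q g)⁻¹) := by
      rintro J₁ hJ₁ hag hinv _ ⟨_, ⟨_, ⟨w, hw, rfl⟩, rfl⟩, rfl⟩
      obtain ⟨w', hw', he⟩ := hinv (lin ((inc ⇑Q g)⁻¹ * inc ⇑Q Y) w) ⟨w, hw, rfl⟩
      refine ⟨P (lin (inc ⇑Q Y) w'), ⟨_, ⟨w', hw', rfl⟩, rfl⟩, ?_⟩
      simp only [← hPc _ hgA hgW', ← hPc _ hgA hgW', ← l_mul, ← l_mul, he, ← hag _ (hPm _)]
      exact hPc J₁ (fun v hv => h.J_A hJ₁ hv) (fun v hv => h.J_W hJ₁ hv) _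
    have hgK : pj Q g ∈ K₁ := by rw [m₁]; exact hgW
    by_cases h3 : a • (H424.Spr.c (pj Q g) • K₂) = H424.Spr.c (pj Q g) • K₂
    · exact main J f.cx (fun _ _ => rfl) (h.key f m₂ a ht' hat hl0 hl hτW hne' hg h3)
    · exact main J' f'.cx agree (h.key f' m₃ a ht' hat hl0 hl hτW hne' hg' (hcon _ hgK h3))
  have hUA : U ≤ cm (lin x) := by
    rintro _ ⟨v, -, rfl⟩
    exact hPm v
  have hU0 : U ≠ ⊥ := by
    intro hbot
    apply hne
    rw [h1]
    apply H424.Spr.c_smul_self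
    change pj Q Y ∈ K₁
    rw [m₁]
    have h3 : (fx (lin x)).map (lin (inc ⇑Q Y)) ≤ fx (lin x) := by
      intro v hv
      have h4 : P v ∈ U := ⟨v, hv, rfl⟩
      rw [hbot, Submodule.mem_bot] at h4
      obtain ⟨w, hw, u, hu, rfl⟩ := h.decomp v
      rw [map_add, hPW w hw, hPA u hu, zero_add] at h4
      rw [h4, add_zero]
      exact hw
    exact Submodule.eq_of_le_of_finrank_eq h3 (l_finrank _ _)
  have hU2 : finrank F U ≤ 2 := by
    calc finrank F U ≤ finrank F ↥((fx (lin x)).map (lin (inc ⇑Q Y))) := Submodule.finrank_map_le _ _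
      _ = 2 := by rw [l_finrank, h.W_dim]
  have hinc1 : inc ⇑Q (1 : Omega F ⇑Q) = 1 := map_one _
  refine no_inv h.four (fun v hv => h.nd hv) (by rw [h.x_dim]; norm_num) f.sq f.irr hUA hU0 hU2 ?_ ?_
  · intro v hv
    have h3 := star 1 (by
      rw [hinc1]
      have : lin (1 : GL ι F) = LinearMap.id := LinearMap.ext fun v => l_one v
      rw [this, Submodule.map_id]) (by
      intro v
      rw [hinc1, inv_one, one_mul, mul_one, f.ct]) (by
      intro v
      rw [hinc1, inv_one, one_mul, mul_one, f'.ct])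
    have h4 : U.map (lin (inc ⇑Q (1 : Omega F ⇑Q))⁻¹) = U := by
      rw [hinc1, inv_one]
      have : lin (1 : GL ι F) = LinearMap.id := LinearMap.ext fun v => l_one v
      rw [this, Submodule.map_id]
    rw [h4] at h3
    exact h3 v hv
  · intro u hu hQ v hv
    obtain ⟨g, hg, w, hw, hQw, e1, e2, hgW⟩ := h.refl_el f hu hQ
    obtain ⟨g', rfl⟩ := exists_inc hg
    have hR : ∀ v ∈ cm (lin x), reflLin Q u v ∈ cm (lin x) := by
      intro v hv
      rw [reflLin_apply]
      exact (cm (lin x)).sub_mem hv ((cm (lin x)).smul_mem _ hu)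
    have i1 : ∀ v ∈ cm (lin x), lin (inc ⇑Q g')⁻¹ v = reflLin Q u v := by
      intro v hv
      apply l_inj (inc ⇑Q g')
      rw [l_inv', e1 _ (hR v hv), reflLin_reflLin hQ]
    have h3 := star g' hgW (h.conj_comm f hu hQ hw hQw e1 e2) (h.conj_comm f' hu hQ hw hQw e1 e2) v
      ⟨reflLin Q u v, hv, by rw [i1 _ (hUA hv), reflLin_reflLin hQ]⟩
    obtain ⟨u', hu', he⟩ := h3
    rw [i1 _ (hUA hu')] at he
    rw [← he, reflLin_reflLin hQ]
    exact hu'

end main

theorem neg_mem_stab (W : Submodule F (ι → F)) : W.map (lin (-1 : GL ι F)) = W := by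
  have h2 : lin (-1 : GL ι F) = -LinearMap.id := LinearMap.ext fun v => by
    rw [l_neg, l_one]
    rfl
  rw [h2, Submodule.map_neg, Submodule.map_id]

theorem neg_Sm (J : Module.End F (ι → F)) (c : F) : Sm J c (-1 : GL ι F) :=
  Or.inl fun v => by rw [l_neg, l_one, l_neg, l_one, map_neg]

/-- the end game in the quotient -/
theorem end_gameF {f : (ι → F) → F} (hf : f = ⇑Q) {x t : GL ι F} {N : ℕ} (h : Cf Q x t N)
    {J J' : Module.End F (ι → F)} {c d : F} (g : Fj Q x t J c d) (g' : Fj Q x t J' c d)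
    (agree : ∀ v ∈ cm (lin x), J' v = J v) {H₁ H₂ H₃ : Subgroup (GL ι F)}
    (m₁ : ∀ y : GL ι F, y ∈ H₁ ↔ (fx (lin x)).map (lin y) = fx (lin x)) (m₂ : ∀ y : GL ι F, y ∈ H₂ ↔ Sm J c y)
    (m₃ : ∀ y : GL ι F, y ∈ H₃ ↔ Sm J' c y) (a : MulAut (POmega F f))
    (h1 : ∃ y : POmega F f, a • tpQ f H₁ = H424.Spr.c y • tpQ f H₁) (hne : a • tpQ f H₁ ≠ tpQ f H₁) :
    ∃ y ∈ tpQ f H₁, a • (H424.Spr.c y • tpQ f H₂) ≠ H424.Spr.c y • tpQ f H₂ ∧
      a • (H424.Spr.c y • tpQ f H₃) ≠ H424.Spr.c y • tpQ f H₃ := by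
  subst hf
  obtain ⟨y₀, h1⟩ := h1
  exact h.end_game g g' agree
    (fun y => (mem_tpQ h.good ((m₁ _).2 (neg_mem_stab _))).trans (m₁ _))
    (fun y => (mem_tpQ h.good ((m₂ _).2 (neg_Sm _ _))).trans (m₂ _))
    (fun y => (mem_tpQ h.good ((m₃ _).2 (neg_Sm _ _))).trans (m₃ _)) a h1 hne

end Cfsg.Agent.H424.O8L
end

-- part: H604/Spr/Plus
section
prune_inst 0x10000001422000400008500002000002c00042000000400a48000000800000284800000010000011802008120000020010000000200000000000400000000208080400032400104040097800000000000000000010000000000000000000000000000000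
set_option linter.all false
open scoped Cfsg.Agent.FastGrp

-- part: H604/Spr/Main
section
/-!
# S3938, orthogonal groups: the main argument (helper604)

`spr_core` : the element of 3/2-generation of `PΩ(Q)` for an automorphism induced by a semisimilarity, from an element `A`
with a block of S5948 of dimension `2 a`, and dimensions of invariant subspaces `0`, `2 e`, `2 a`, `2 (a + e)` only.
-/

set_option autoImplicit false
set_option linter.unusedSectionVars false

namespace Cfsg.Agent.H604.Spr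

open Cfsg Cfsg.Geo Module
open QuadraticMap hiding proj
open Cfsg.Agent.LieClassical.OrthCore Cfsg.Agent.LieClassical.OrthTrans Cfsg.Agent.LieClassical.OrthSimple
open Cfsg.Agent.LieClassical.OrthFinite
open Cfsg.Agent.AutOrth.SemiSim (IsSemi conjL conjL_apply conjL_apply' conjLHom conjL_mem_E)
open Cfsg.Agent.H383.Cov (emb emb_injective range_emb map_emb_le map_emb_ne Blk NumEl Dims OgO omegaGL_le polar_isom
  comm_of_coprime dvd_finrank orderOf_conj exists_fix toLin_pow_orderOf eq_zero_of_fix finrank_add)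
open Cfsg.Agent.H278.Cov (Red Ext Num)
open scoped MatrixGroups Matrix

variable {ι : Type} [Fintype ι] [DecidableEq ι] {F : Type} [Field F] [Fintype F] {Q : QuadraticForm F (ι → F)}
  {T : (ι → F) ≃+ (ι → F)} {σ : F ≃+* F} {μ : F}

/-- conjugation as an algebra homomorphism -/
def cj (g : GL ι F) : Matrix ι ι F →ₐ[F] Matrix ι ι F where
  toFun a := (g : Matrix ι ι F) * a * ((g⁻¹ : GL ι F) : Matrix ι ι F)
  map_one' := by rw [mul_one, ← Units.val_mul, mul_inv_cancel, Units.val_one]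
  map_mul' a b := by
    have h : ((g⁻¹ : GL ι F) : Matrix ι ι F) * (g : Matrix ι ι F) = 1 := by
      rw [← Units.val_mul, inv_mul_cancel, Units.val_one]
    calc _ = (g : Matrix ι ι F) * a * 1 * b * ((g⁻¹ : GL ι F) : Matrix ι ι F) := by
          simp only [mul_one, mul_assoc]
      _ = _ := by rw [← h]; simp only [mul_assoc]
  map_zero' := by rw [mul_zero, zero_mul]
  map_add' a b := by rw [mul_add, add_mul]
  commutes' c := by
    rw [← Algebra.commutes, mul_assoc, ← Units.val_mul, mul_inv_cancel, Units.val_one, mul_one]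

theorem cj_apply (g : GL ι F) (a : Matrix ι ι F) :
    cj g a = (g : Matrix ι ι F) * a * ((g⁻¹ : GL ι F) : Matrix ι ι F) := rfl

theorem cj_injective (g : GL ι F) : Function.Injective (cj g) := by
  intro a b hab
  rw [cj_apply, cj_apply] at hab
  have h := congrArg (fun m => ((g⁻¹ : GL ι F) : Matrix ι ι F) * m * (g : Matrix ι ι F)) hab
  have h1 : ∀ a : Matrix ι ι F, ((g⁻¹ : GL ι F) : Matrix ι ι F) *
      ((g : Matrix ι ι F) * a * ((g⁻¹ : GL ι F) : Matrix ι ι F)) * (g : Matrix ι ι F) = a := by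
    intro a
    calc _ = (((g⁻¹ : GL ι F) : Matrix ι ι F) * (g : Matrix ι ι F)) * a *
          (((g⁻¹ : GL ι F) : Matrix ι ι F) * (g : Matrix ι ι F)) := by simp only [mul_assoc]
      _ = a := by rw [← Units.val_mul, inv_mul_cancel, Units.val_one, one_mul, mul_one]
  simp only [h1] at h
  exact h

/-- conjugate fields of matrices -/
theorem field_conj {s : ℕ} {K : Subalgebra F (Matrix ι ι F)} (hK : IsFieldSubalgebra s K) (g : GL ι F) :
    IsFieldSubalgebra s (K.map (cj g)) where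
  comm := by
    rintro _ ⟨a, ha, rfl⟩ _ ⟨b, hb, rfl⟩
    rw [← map_mul, ← map_mul, hK.comm a ha b hb]
  inv := by
    rintro _ ⟨a, ha, rfl⟩ h0
    obtain ⟨b, hb, hab⟩ := hK.inv a ha (by
      rintro rfl
      exact h0 (map_zero _))
    exact ⟨_, ⟨b, hb, rfl⟩, by rw [← map_mul, hab, map_one]⟩
  finrank_eq := by
    rw [← hK.finrank_eq]
    exact (LinearEquiv.finrank_eq (K.equivMapOfInjective (cj g) (cj_injective g)).toLinearEquiv).symm

section orth

variable {x : GL ι F}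

theorem polar_RF (hx : x ∈ isometryGroup F ⇑Q) {w r : ι → F} (hw : w ∈ Fx x) (hr : r ∈ Rx x) : polar Q r w = 0 := by
  obtain ⟨z, rfl⟩ := mem_Rx.1 hr
  rw [polar_sub_left]
  nth_rewrite 1 [← mem_Fx.1 hw]
  rw [polar_isom hx, sub_self]

theorem mem_Fx_iff (hQ : Nondeg Q) (hx : x ∈ isometryGroup F ⇑Q) {w : ι → F} :
    w ∈ Fx x ↔ ∀ r ∈ Rx x, polar Q r w = 0 := by
  refine ⟨fun hw r hr => polar_RF hx hw hr, fun h => ?_⟩
  rw [mem_Fx]
  symm
  rw [← sub_eq_zero]
  apply hQ
  intro y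
  obtain ⟨z, rfl⟩ : ∃ z, (x : Matrix ι ι F) *ᵥ z = y := (H383.Cov.eqv x).surjective y
  have h1 := h _ (mem_Rx.2 ⟨z, rfl⟩)
  rw [polar_sub_left, sub_eq_zero, ← polar_isom hx z w] at h1
  rw [polar_sub_left, polar_comm Q w, h1, polar_comm Q _ ((x : Matrix ι ι F) *ᵥ z), sub_self]

theorem finrank_FR (x : GL ι F) : finrank F (Rx x) + finrank F (Fx x) = Fintype.card ι := by
  rw [finrank_add (x := Matrix.toLin' (x : Matrix ι ι F)), Module.finrank_fintype_fun_eq_card]

end orth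

/-- the subspace attached to `Fx x`, `Rx x` and the semisimilarity -/
def UU (hM : IsSemi Q T σ μ) (x : GL ι F) : Submodule F (ι → F) where
  carrier := {u | u ∈ Rx x ∧ ∃ w ∈ Fx x, ∃ w' ∈ Fx x, u = w + T w'}
  add_mem' := by
    rintro _ _ ⟨h1, w, hw, w', hw', rfl⟩ ⟨h2, z, hz, z', hz', rfl⟩
    refine ⟨(Rx x).add_mem h1 h2, w + z, (Fx x).add_mem hw hz, w' + z', (Fx x).add_mem hw' hz', ?_⟩
    rw [map_add]
    abel
  zero_mem' := ⟨(Rx x).zero_mem, 0, (Fx x).zero_mem, 0, (Fx x).zero_mem, by rw [map_zero, add_zero]⟩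
  smul_mem' := by
    rintro c _ ⟨h1, w, hw, w', hw', rfl⟩
    refine ⟨(Rx x).smul_mem c h1, c • w, (Fx x).smul_mem c hw, σ.symm c • w', (Fx x).smul_mem _ hw', ?_⟩
    rw [hM.smul, RingEquiv.apply_symm_apply, smul_add]

theorem mem_UU {hM : IsSemi Q T σ μ} {x : GL ι F} {u : ι → F} :
    u ∈ UU hM x ↔ u ∈ Rx x ∧ ∃ w ∈ Fx x, ∃ w' ∈ Fx x, u = w + T w' := Iff.rfl

/-- the image of `Fx x` under the semisimilarity -/
def TF (hM : IsSemi Q T σ μ) (x : GL ι F) : Submodule F (ι → F) where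
  carrier := {u | ∃ w ∈ Fx x, T w = u}
  add_mem' := by
    rintro _ _ ⟨w, hw, rfl⟩ ⟨z, hz, rfl⟩
    exact ⟨w + z, (Fx x).add_mem hw hz, map_add _ _ _⟩
  zero_mem' := ⟨0, (Fx x).zero_mem, map_zero _⟩
  smul_mem' := by
    rintro c _ ⟨w, hw, rfl⟩
    exact ⟨σ.symm c • w, (Fx x).smul_mem _ hw, by rw [hM.smul, RingEquiv.apply_symm_apply]⟩

theorem finrank_TF (hM : IsSemi Q T σ μ) (x : GL ι F) : finrank F (TF hM x) = finrank F (Fx x) := by
  have h1 : Nat.card (TF hM x) = Nat.card (Fx x) := by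
    symm
    refine Nat.card_congr (Equiv.ofBijective (fun w => ⟨T w, w, w.2, rfl⟩) ⟨?_, ?_⟩)
    · intro a b hab
      exact Subtype.ext (T.injective (congrArg Subtype.val hab))
    · rintro ⟨_, w, hw, rfl⟩
      exact ⟨⟨w, hw⟩, rfl⟩
  rw [Module.natCard_eq_pow_finrank (K := F) (V := TF hM x), Module.natCard_eq_pow_finrank (K := F) (V := Fx x)] at h1
  exact Nat.pow_right_injective (Finite.one_lt_card : 1 < Nat.card F) h1

/-- **The field of a bad group.** -/
theorem field_of_bad [Nonempty ι] (hG : Good Q) (hM : IsSemi Q T σ μ) (og : OgO ⇑Q) {A : GL ι F} {a e i : ℕ}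
    (hn : Fintype.card ι = 2 * a + 2 * e) (hae : e < a)
    (hgcd : ∀ r : ℕ, r.Prime → r ∣ Nat.gcd (Fintype.card ι) (2 * a) → r = 2) (hAi : NumEl a (A ^ i))
    (dA : Dims A {0, 2 * e, 2 * a, Fintype.card ι}) {H : Subgroup (GL ι F)} (hH : Bad hM H) (hAH : A ∈ H)
    {w₁ : ι → F} (hw₁ : w₁ ∈ Fx (A ^ i)) (hTw₁ : T w₁ ∉ Fx (A ^ i)) :
    ∃ K : Subalgebra F (Matrix ι ι F), IsFieldSubalgebra 2 K ∧
      (∀ e ∈ K, ((A ^ i : GL ι F) : Matrix ι ι F) * e = e * ((A ^ i : GL ι F) : Matrix ι ι F)) ∧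
      ∀ e ∈ K, ∀ u ∈ UU hM (A ^ i), e *ᵥ u ∈ UU hM (A ^ i) := by
  set x : GL ι F := A ^ i with hx
  have hxH : x ∈ H := H.pow_mem hAH i
  have hiso : H ≤ isometryGroup F ⇑Q := hH.le.trans (omegaGL_le _)
  have hb := hAi.blk
  have hR : finrank F (Rx x) = 2 * a := hb.rk
  have hW : finrank F (Fx x) = 2 * e := by
    have := finrank_FR x
    omega
  -- `H` is irreducible
  have hirr : ¬ Red H := by
    rintro ⟨X, hX0, hX1, hX⟩
    have hXinv : ∀ z ∈ H, ∀ w ∈ X, (z : Matrix ι ι F) *ᵥ w ∈ X := fun z hz w hw => (hX hz w).1 hw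
    have hd := dA X (hXinv A hAH)
    have hX0' : finrank F X ≠ 0 := fun h => hX0 (Submodule.finrank_eq_zero.1 h)
    have hX1' : finrank F X ≠ Fintype.card ι := by
      intro h
      apply hX1
      apply Submodule.eq_top_of_finrank_eq
      rw [h, Module.finrank_fintype_fun_eq_card]
    simp only [Set.mem_insert_iff, Set.mem_singleton_iff] at hd
    -- `Fx x` is invariant
    have hWinv : ∀ h ∈ H, ∀ w ∈ Fx x, (h : Matrix ι ι F) *ᵥ w ∈ Fx x := by
      rcases hb.le_or_le (hXinv x hxH) with h1 | h1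
      · have h2 : X = Fx x := by
          apply Submodule.eq_of_le_of_finrank_le h1
          change finrank F (Fx x) ≤ _
          (clear * - hn hae hW hX0' hd; omega)
        rw [← h2]
        exact hXinv
      · have h2 : Rx x = X := by
          apply Submodule.eq_of_le_of_finrank_le h1
          have := Submodule.finrank_mono h1
          change finrank F (Rx x) ≤ _ at this
          change _ ≤ finrank F (Rx x)
          omega
        intro h hh w hw
        rw [mem_Fx_iff hG.nondeg (hiso hxH)] at hw ⊢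
        intro r hr
        have h3 : ((h⁻¹ : GL ι F) : Matrix ι ι F) *ᵥ r ∈ Rx x := by
          rw [h2] at hr ⊢
          exact hXinv _ (H.inv_mem hh) r hr
        have h4 := hw _ h3
        rw [← polar_isom (hiso hh), Matrix.mulVec_mulVec, ← Units.val_mul, mul_inv_cancel, Units.val_one,
          Matrix.one_mulVec] at h4
        exact h4
    -- `T (Fx x)` is invariant
    have hTinv : ∀ w ∈ TF hM x, (x : Matrix ι ι F) *ᵥ w ∈ TF hM x := by
      rintro _ ⟨w, hw, rfl⟩
      obtain ⟨h', hh', hx'⟩ := hH.surj hxH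
      refine ⟨_, hWinv h' hh' w hw, ?_⟩
      rw [← tg_apply hM, hx']
    rcases hb.le_or_le hTinv with h1 | h1
    · exact hTw₁ (h1 ⟨w₁, hw₁, rfl⟩)
    · have h2 := Submodule.finrank_mono h1
      rw [finrank_TF, hW] at h2
      change finrank F (Rx x) ≤ _ at h2
      omega
  -- the field
  obtain ⟨r, K, hr, hrd, hK, hN⟩ := (og _ H hH.le hH.ne x hxH hAi.num).resolve_left hirr
  obtain rfl := hgcd r hr hrd
  have hcomm : ∀ z ∈ H, Odd (orderOf z) → ∀ e ∈ K, (z : Matrix ι ι F) * e = e * z := fun z hz ho e he =>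
    comm_of_coprime hK (hN hz) (Nat.coprime_two_right.2 ho) he
  have hcx := hcomm x hxH hAi.odd
  refine ⟨K, hK, hcx, fun e he u hu => ?_⟩
  obtain ⟨h1, w, hw, w', hw', rfl⟩ := mem_UU.1 hu
  have hx' : tg hM x ∈ H := hH.inv x hxH
  have ho' : Odd (orderOf (tg hM x)) := by
    rw [orderOf_injective (tg hM) (tg_injective hM)]
    exact hAi.odd
  have hcx' := hcomm _ hx' ho' e he
  have h2 : e *ᵥ T w' = T (T.symm (e *ᵥ T w')) := (T.apply_symm_apply _).symm
  have h3 : T.symm (e *ᵥ T w') ∈ Fx x := by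
    rw [mem_Fx]
    apply T.injective
    rw [← tg_apply hM, T.apply_symm_apply, Matrix.mulVec_mulVec, hcx', ← Matrix.mulVec_mulVec, tg_apply hM,
      mem_Fx.1 hw']
  refine mem_UU.2 ⟨Rx_comm (hcx e he) h1, e *ᵥ w, Fx_comm (hcx e he) hw, _, h3, ?_⟩
  rw [Matrix.mulVec_add, ← h2]

/-- **The core.** -/
theorem exists_good [Nonempty ι] (hG : Good Q) (hM : IsSemi Q T σ μ) (og : OgO ⇑Q) {A : GL ι F}
    (hA : A ∈ omegaGL ⇑Q) {a e i : ℕ}
    (hn : Fintype.card ι = 2 * a + 2 * e) (hae : e < a) (ha : 4 ≤ a)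
    (hgcd : ∀ r : ℕ, r.Prime → r ∣ Nat.gcd (Fintype.card ι) (2 * a) → r = 2) (hAi : NumEl a (A ^ i))
    (dA : Dims A {0, 2 * e, 2 * a, Fintype.card ι})
    {w₁ : ι → F} (hw₁ : w₁ ∈ Fx (A ^ i)) (hTw₁ : T w₁ ∉ Fx (A ^ i)) :
    ∃ B ∈ omegaGL ⇑Q, ∀ H, Bad hM H → B ∉ H := by
  by_contra hcon
  push Not at hcon
  set x : GL ι F := A ^ i with hx
  have hb := hAi.blk
  have hxQ : x ∈ isometryGroup F ⇑Q := omegaGL_le _ ((omegaGL ⇑Q).pow_mem hA i)
  have hR : finrank F (Rx x) = 2 * a := hb.rk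
  have hW : finrank F (Fx x) = 2 * e := by
    have := finrank_FR x
    omega
  have hXM := toLin_pow_orderOf x
  -- the sum
  have hsum : ∀ v : ι → F, ∃ w ∈ Fx x, ∃ r ∈ Rx x, v = w + r := by
    intro v
    obtain ⟨w, z, h1, h2⟩ := exists_fix hXM hb.copq v
    exact ⟨w, mem_Fx.2 h1, _, mem_Rx.2 ⟨z, rfl⟩, h2⟩
  have hdisj : ∀ v, v ∈ Fx x → v ∈ Rx x → v = 0 := by
    intro v h1 h2
    obtain ⟨z, hz⟩ := mem_Rx.1 h2
    exact eq_zero_of_fix hXM hb.copq (v := z) hz.symm (mem_Fx.1 h1)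
  -- elements of `Gam`
  have hgamR : ∀ g ∈ Gam Q (Rx x), ∀ v, v ∈ Rx x → g v ∈ Rx x := by
    intro g hg v hv
    obtain ⟨w, hw, r, hr, hvr⟩ := hsum (g v)
    have h1 : w = 0 := by
      have h2 : ∀ y, polar Q w y = 0 := by
        intro y
        obtain ⟨w', hw', r', hr', rfl⟩ := hsum y
        rw [polar_add_right, polar_comm Q w r', polar_RF hxQ hw hr', add_zero]
        have h3 : polar Q (g v) w' = 0 := by
          have h4 : g w' = w' := hg.2 w' fun r hr => polar_RF hxQ hw' hr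
          rw [← h4, polar_map (E_le_O hg.1)]
          exact polar_RF hxQ hw' hv
        rw [hvr, polar_add_left, polar_RF hxQ hw' hr, add_zero] at h3
        exact h3
      exact hG.nondeg w h2
    rw [hvr, h1, zero_add]
    exact hr
  -- the field for `g`
  have hfield : ∀ g ∈ Gam Q (Rx x), ∃ K : Subalgebra F (Matrix ι ι F), IsFieldSubalgebra 2 K ∧
      (∀ e ∈ K, (x : Matrix ι ι F) * e = e * x) ∧
      ∀ e ∈ K, ∀ u ∈ UU hM x, e *ᵥ g u ∈ (UU hM x).map (g : (ι → F) →ₗ[F] (ι → F)) := by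
    intro g hg
    obtain ⟨γ, hγ, hγg⟩ := exists_om hG ((Gam Q (Rx x)).inv_mem hg).1
    have hγv : ∀ v, (γ : Matrix ι ι F) *ᵥ v = g.symm v := by
      intro v
      rw [← glEquiv_apply, hγg]
      rfl
    have hγv' : ∀ v, ((γ⁻¹ : GL ι F) : Matrix ι ι F) *ᵥ v = g v := by
      intro v
      rw [← glEquiv_apply, map_inv, hγg, inv_inv]
    obtain ⟨H, hH, hAH⟩ := hcon (γ * A * γ⁻¹)
      ((omegaGL ⇑Q).mul_mem ((omegaGL ⇑Q).mul_mem hγ hA) ((omegaGL ⇑Q).inv_mem hγ))
    have hpow : (γ * A * γ⁻¹) ^ i = γ * x * γ⁻¹ := by rw [hx, conj_pow]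
    have hgR' : ∀ v, v ∈ Rx x ↔ g v ∈ Rx x := by
      intro v
      refine ⟨hgamR g hg v, fun h => ?_⟩
      have h1 := hgamR _ ((Gam Q (Rx x)).inv_mem hg) _ h
      change g.symm (g v) ∈ Rx x at h1
      rwa [LinearEquiv.symm_apply_apply] at h1
    have hgF : ∀ v ∈ Fx x, g v = v := fun v hv => hg.2 v fun r hr => polar_RF hxQ hv hr
    have hFx : Fx (γ * x * γ⁻¹) = Fx x := by
      have h1 : ∀ v ∈ Fx x, v ∈ Fx (γ * x * γ⁻¹) := by
        intro v hv
        rw [mem_Fx, Units.val_mul, Units.val_mul, ← Matrix.mulVec_mulVec, ← Matrix.mulVec_mulVec, hγv', hgF v hv,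
          mem_Fx.1 hv, hγv, LinearEquiv.symm_apply_eq, hgF v hv]
      symm
      apply Submodule.eq_of_le_of_finrank_le h1
      have h2 := finrank_FR (γ * x * γ⁻¹)
      have h3 : finrank F (Rx (γ * x * γ⁻¹)) = 2 * a := (hb.conj γ).rk
      omega
    have hRx : Rx (γ * x * γ⁻¹) = Rx x := by
      have h1 : Rx (γ * x * γ⁻¹) ≤ Rx x := by
        intro v hv
        obtain ⟨z, rfl⟩ := mem_Rx.1 hv
        rw [hgR', map_sub, Units.val_mul, Units.val_mul, ← Matrix.mulVec_mulVec, ← Matrix.mulVec_mulVec, hγv', hγv,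
          LinearEquiv.apply_symm_apply]
        exact mem_Rx.2 ⟨g z, rfl⟩
      apply Submodule.eq_of_le_of_finrank_le h1
      have h3 : finrank F (Rx (γ * x * γ⁻¹)) = 2 * a := (hb.conj γ).rk
      omega
    have hUU : UU hM (γ * x * γ⁻¹) = UU hM x := by
      ext u
      rw [mem_UU, mem_UU, hFx, hRx]
    obtain ⟨K, hK, hc, hU⟩ := field_of_bad hG hM og (A := γ * A * γ⁻¹) (i := i) hn hae hgcd
      (by rw [hpow]; exact hAi.conj γ) (dA.conj γ) hH hAH (w₁ := w₁)
      (by rw [hpow, hFx]; exact hw₁) (by rw [hpow, hFx]; exact hTw₁)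
    rw [hpow] at hc hU
    rw [hUU] at hU
    refine ⟨K.map (cj γ⁻¹), field_conj hK γ⁻¹, ?_, ?_⟩
    · rintro _ ⟨e, he, rfl⟩
      have h1 := hc e he
      change (x : Matrix ι ι F) * cj γ⁻¹ e = cj γ⁻¹ e * x
      rw [cj_apply, inv_inv]
      have h2 : ((γ⁻¹ : GL ι F) : Matrix ι ι F) * (γ : Matrix ι ι F) = 1 := by
        rw [← Units.val_mul, inv_mul_cancel, Units.val_one]
      rw [Units.val_mul, Units.val_mul] at h1
      calc (x : Matrix ι ι F) * (((γ⁻¹ : GL ι F) : Matrix ι ι F) * e * (γ : Matrix ι ι F))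
          = (((γ⁻¹ : GL ι F) : Matrix ι ι F) * (γ : Matrix ι ι F)) * x * (((γ⁻¹ : GL ι F) : Matrix ι ι F)) * e *
            (γ : Matrix ι ι F) := by rw [h2, one_mul]; simp only [mul_assoc]
        _ = ((γ⁻¹ : GL ι F) : Matrix ι ι F) * ((γ : Matrix ι ι F) * x * (((γ⁻¹ : GL ι F) : Matrix ι ι F)) * e) *
            (γ : Matrix ι ι F) := by simp only [mul_assoc]
        _ = ((γ⁻¹ : GL ι F) : Matrix ι ι F) * e * (γ : Matrix ι ι F) * x *
            (((γ⁻¹ : GL ι F) : Matrix ι ι F) * (γ : Matrix ι ι F)) := by rw [h1]; simp only [mul_assoc]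
        _ = _ := by rw [h2, mul_one]
    · rintro _ ⟨e, he, rfl⟩ u hu
      refine ⟨e *ᵥ u, hU e he u hu, ?_⟩
      change g (e *ᵥ u) = (cj γ⁻¹ e) *ᵥ (g u)
      rw [cj_apply, inv_inv, ← Matrix.mulVec_mulVec, ← Matrix.mulVec_mulVec, hγv, LinearEquiv.symm_apply_apply, hγv']
  -- the first field
  obtain ⟨K₁, hK₁, hc₁, -⟩ := hfield 1 (Gam Q (Rx x)).one_mem
  have hnd : Nondeg (Q.comp (Rx x).subtype) := by
    intro r hr
    apply Subtype.ext
    apply hG.nondeg
    intro y
    obtain ⟨w', hw', r', hr', rfl⟩ := hsum y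
    rw [polar_add_right, polar_RF hxQ hw' r.2, zero_add]
    have h1 := hr ⟨r', hr'⟩
    simp only [polar, QuadraticMap.comp_apply, map_add, Submodule.subtype_apply] at h1
    exact h1
  have hU0 : UU hM x ≠ ⊥ := by
    intro h
    obtain ⟨w, hw, r, hr, hwr⟩ := hsum (T w₁)
    have h1 : r ∈ UU hM x := mem_UU.2 ⟨hr, -w, (Fx x).neg_mem hw, w₁, hw₁, by rw [hwr]; abel⟩
    rw [h, Submodule.mem_bot] at h1
    rw [h1, add_zero] at hwr
    exact hTw₁ (hwr ▸ hw)
  have hUR : UU hM x ≠ Rx x := by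
    intro h
    have h1 : (⊤ : Submodule F (ι → F)) ≤ Fx x ⊔ TF hM x := by
      intro v _
      obtain ⟨w, hw, r, hr, rfl⟩ := hsum v
      rw [← h] at hr
      obtain ⟨-, z, hz, z', hz', rfl⟩ := mem_UU.1 hr
      exact Submodule.add_mem _ (Submodule.mem_sup_left hw)
        (Submodule.add_mem _ (Submodule.mem_sup_left hz) (Submodule.mem_sup_right ⟨z', hz', rfl⟩))
    have h2 := Submodule.finrank_mono h1
    rw [finrank_top, Module.finrank_fintype_fun_eq_card] at h2
    have h3 := Submodule.finrank_add_le_finrank_add_finrank (Fx x) (TF hM x)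
    rw [finrank_TF] at h3
    omega
  obtain ⟨g, hg, hgU⟩ := move (Q := Q) (R := Rx x) hnd (by omega)
    (𝓔 := {f | ∃ e ∈ K₁, ∀ v, f v = e *ᵥ v}) (by
      intro X hX hX0 hinv
      have h1 : 2 ∣ finrank F X := dvd_finrank hK₁ X fun e he w hw => by
        have := hinv (Matrix.toLin' e) ⟨e, he, fun v => Matrix.toLin'_apply e v⟩ w hw
        rwa [Matrix.toLin'_apply] at this
      have h2 : finrank F X ≠ 0 := fun h => hX0 (Submodule.finrank_eq_zero.1 h)
      exact Nat.le_of_dvd (Nat.pos_of_ne_zero h2) h1) (U := UU hM x) (fun u hu => (mem_UU.1 hu).1) hU0 hUR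
  apply hgU
  rintro f ⟨e, he', hf⟩ _ ⟨u, hu, rfl⟩
  rw [hf]
  change e *ᵥ (g u) ∈ _
  obtain ⟨K, hK, hc, hU⟩ := hfield g hg
  obtain ⟨e', he'', hee⟩ := uniq (by omega) hb hK₁ hK hc₁ hc he'
  rw [hee _ (hgamR g hg u (mem_UU.1 hu).1)]
  exact hU e' he'' u hu

/-- **The core for an automorphism.** -/
theorem spr_core [Nonempty ι] (hG : Good Q) (og : OgO ⇑Q) {A : GL ι F}
    (hA : A ∈ omegaGL ⇑Q) {a e i : ℕ}
    (hn : Fintype.card ι = 2 * a + 2 * e) (he : 1 ≤ e) (hae : e < a) (ha : 4 ≤ a)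
    (hgcd : ∀ r : ℕ, r.Prime → r ∣ Nat.gcd (Fintype.card ι) (2 * a) → r = 2) (hAi : NumEl a (A ^ i))
    (dA : Dims A {0, 2 * e, 2 * a, Fintype.card ι}) {α : MulAut (POmega F ⇑Q)}
    (hα : AutOrth.Main.Ind ⇑Q α) (hα1 : α ≠ 1) :
    ∃ x : POmega F ⇑Q, ∀ K : Subgroup (POmega F ⇑Q), x ∈ K → (∀ k ∈ K, α k ∈ K) → K = ⊤ := by
  obtain ⟨σ, μ, T, ⟨h1, h2, h3⟩, h4⟩ := hα
  have hM : IsSemi Q T σ μ := ⟨h1, h2, h3⟩
  have hR : finrank F (Rx (A ^ i)) = 2 * a := hAi.blk.rk
  have hW : finrank F (Fx (A ^ i)) = 2 * e := by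
    have := finrank_FR (A ^ i)
    omega
  obtain ⟨k, hk, w, hw, hTw⟩ := exists_moved hG hM h4 hα1 (Fx (A ^ i)) (by
      intro h
      rw [h, finrank_bot] at hW
      omega) (by
      intro h
      rw [h, finrank_top, Module.finrank_fintype_fun_eq_card] at hW
      omega)
  have hpow : (k⁻¹ * A * k) ^ i = k⁻¹ * A ^ i * k := by
    have := conj_pow (a := k⁻¹) (b := A) (i := i)
    rwa [inv_inv] at this
  have hmem : ∀ v, v ∈ Fx (k⁻¹ * A ^ i * k) ↔ (k : Matrix ι ι F) *ᵥ v ∈ Fx (A ^ i) := by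
    intro v
    rw [mem_Fx, mem_Fx, Units.val_mul, Units.val_mul, ← Matrix.mulVec_mulVec, ← Matrix.mulVec_mulVec]
    constructor
    · intro h
      have h5 := congrArg (fun u => (k : Matrix ι ι F) *ᵥ u) h
      simp only [Matrix.mulVec_mulVec] at h5
      rw [← mul_assoc, ← Units.val_mul, mul_inv_cancel, Units.val_one, one_mul] at h5
      rw [Matrix.mulVec_mulVec]
      exact h5
    · intro h
      rw [h, Matrix.mulVec_mulVec, ← Units.val_mul, inv_mul_cancel, Units.val_one, Matrix.one_mulVec]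
  obtain ⟨B, hB, hB'⟩ := exists_good hG hM og (A := k⁻¹ * A * k) (i := i)
    ((omegaGL ⇑Q).mul_mem ((omegaGL ⇑Q).mul_mem ((omegaGL ⇑Q).inv_mem hk) hA) hk) hn hae ha hgcd
    (by
      rw [hpow]
      have := hAi.conj k⁻¹
      rwa [inv_inv] at this)
    (by
      have := dA.conj k⁻¹
      rwa [inv_inv] at this) (w₁ := w) (by rw [hpow, hmem]; exact hw) (by rw [hpow, hmem]; exact hTw)
  exact exists_of_bad hG hM h4 hB hB'

end Cfsg.Agent.H604.Spr
end

-- part: H604/Spr/ElA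
section
/-!
# S3938, orthogonal groups of plus type: elements with two irreducible blocks (helper604)

`exists_A2` : as `H383.Cov.exists_A`, with the square of an element of order `N' ∣ q ^ e + 1` on the second block.
-/

set_option autoImplicit false
set_option linter.unusedSectionVars false
set_option linter.style.haveILetI false

namespace Cfsg.Agent.H604.Spr

open Module Cfsg Cfsg.Geo QuadraticMap
open Cfsg.Agent.LieClassical.OrthCore Cfsg.Agent.LieClassical.OrthForms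
open Cfsg.Agent.H182.Sign
open Cfsg.Agent.H383.Cov
open Cfsg.Agent.H278.Cov (Red Ext Num)
open scoped MatrixGroups Matrix

variable {F : Type} [Field F] [Fintype F]

/-- matrices from isometries of another model -/
theorem exists_sim_iso {ι : Type} [Fintype ι] [DecidableEq ι] {Q : QuadraticForm F (ι → F)}
    {V : Type} [AddCommGroup V] [Module F V] {Q' : QuadraticForm F V}
    (e : (ι → F) ≃ₗ[F] V) (he : ∀ v, Q' (e v) = Q v)
    {x : Module.End F V} (hx : ∀ v, Q' (x v) = Q' v) {M : ℕ} (hM0 : M ≠ 0) (hxM : x ^ M = 1) :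
    ∃ X : GL ι F, X ∈ isometryGroup F ⇑Q ∧ ∀ v, e ((X : Matrix ι ι F) *ᵥ v) = x (e v) := by
  let φ : Module.End F V ≃ₐ[F] Matrix ι ι F := (e.symm.conjAlgEquiv F).trans LinearMap.toMatrixAlgEquiv'
  have hφ : ∀ (S : Module.End F V) (v : ι → F), (φ S).mulVec v = e.symm (S (e v)) := by
    intro S v
    show (LinearMap.toMatrix' (e.symm.conj S)).mulVec v = _
    rw [LinearMap.toMatrix'_mulVec]
    rfl
  have hunit : IsUnit (φ x) := by
    apply IsUnit.of_pow_eq_one (n := M) _ hM0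
    rw [← map_pow, hxM, map_one]
  obtain ⟨X, hX⟩ := hunit
  have hsim : ∀ v, e ((X : Matrix ι ι F) *ᵥ v) = x (e v) := by
    intro v
    rw [hX, hφ, e.apply_symm_apply]
  refine ⟨X, ?_, hsim⟩
  rw [Cfsg.Agent.LieClassical.OrthFinite.mem_isometryGroup_iff]
  intro v
  rw [← he, hsim, hx, he]

/-- elements of `omegaGL Q` from squares of isometries of another model -/
theorem exists_sim_sq {ι : Type} [Fintype ι] [DecidableEq ι] {Q : QuadraticForm F (ι → F)} {n : ℕ} {ε : ℤ}
    (hQ : Sg Q n ε) (h5 : 5 ≤ Fintype.card ι) {V : Type} [AddCommGroup V] [Module F V] [Finite V]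
    {Q' : QuadraticForm F V} (hQ' : Sg Q' n ε) {s : Module.End F V} (hs : ∀ v, Q' (s v) = Q' v) {M : ℕ}
    (hM0 : M ≠ 0) (hsM : s ^ M = 1) : ∃ X : GL ι F, X ∈ omegaGL ⇑Q ∧ Sim X (s * s) := by
  obtain ⟨e, he⟩ := Sg.exists_equiv hQ hQ'
  obtain ⟨S, hS, hsim⟩ := exists_sim_iso (Q := Q) e he hs hM0 hsM
  refine ⟨S * S, ?_, e, fun v => ?_⟩
  · let g : isometryGroup F ⇑Q := ⟨S, hS⟩
    exact ⟨g * g, Cfsg.Agent.H377.mul_self_mem_Omega Q hQ.nondeg h5 g, rfl⟩
  · rw [Units.val_mul, ← Matrix.mulVec_mulVec, hsim, hsim, Module.End.mul_apply]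

/-- the dimensions of the invariant subspaces of a pair of irreducible multiplications of coprime orders -/
theorem dims_pair {L L' : Type} [Field L] [Algebra F L] [Finite L] [Field L'] [Algebra F L'] [Finite L'] {u : L}
    {w : L'} {M N a e m : ℕ} (s2 : finrank F L = 2 * a) (t2 : finrank F L' = 2 * e) (hm : a + e = m)
    (s3 : orderOf u = M) (t3 : orderOf w = N) (s4 : u ≠ 0) (t4 : w ≠ 0) (hM1 : M ≠ 1)
    (hc : M.Coprime N) (h1 : ∀ j, 1 ≤ j → j < 2 * a → ¬ M ∣ Fintype.card F ^ j - 1)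
    (h2 : ∀ j, 1 ≤ j → j < 2 * e → ¬ N ∣ Fintype.card F ^ j - 1)
    {W : Submodule F (L × L')} (hW : ∀ v ∈ W, ((LinearMap.mulLeft F u : Module.End F L).prodMap
      (LinearMap.mulLeft F w : Module.End F L')) v ∈ W) : finrank F W ∈ ({0, 2 * e, 2 * a, 2 * m} : Set ℕ) := by
  have hfL : FiniteDimensional F L := Module.Finite.of_finite
  have hfL' : FiniteDimensional F L' := Module.Finite.of_finite
  have p1 : (LinearMap.mulLeft F u : Module.End F L) ^ M = 1 := by
    rw [mulLeft_pow, mulLeft_eq_one, ← s3, pow_orderOf_eq_one]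
  have p2 : (LinearMap.mulLeft F w : Module.End F L') ^ N = 1 := by
    rw [mulLeft_pow, mulLeft_eq_one, ← t3, pow_orderOf_eq_one]
  have hcase : ∀ {K : Type} [Field K] [Algebra F K] [Finite K] {w : K} {d : ℕ}, finrank F K = d → w ≠ 0 →
      (∀ j, 1 ≤ j → j < d → ¬ orderOf w ∣ Fintype.card F ^ j - 1) →
      ∀ W : Submodule F K, (∀ v ∈ W, LinearMap.mulLeft F w v ∈ W) → finrank F W ∈ ({0, d} : Set ℕ) := by
    intro K _ _ _ w d hd h0 h W hW
    rcases irr_mul (F := F) (ζ := w) (by rw [hd, Nat.card_eq_fintype_card]; exact h) h0 hW with rfl | rfl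
    · left; exact finrank_bot F K
    · right; rw [finrank_top]; exact hd
  obtain ⟨s, hs', t, ht', hst⟩ := pair_dims p1 p2 hc (mulLeft_free (ne_one_of_order s3 hM1))
    (hcase s2 s4 (by rw [s3]; exact h1)) (hcase t2 t4 (by rw [t3]; exact h2)) hW
  rw [hst]
  simp only [Set.mem_insert_iff, Set.mem_singleton_iff] at hs' ht' ⊢
  (clear * - hm hs' ht'; omega)

theorem num_not_dvd {q n k M : ℕ} (hM : Num q n k M) : ∀ j, 1 ≤ j → j < k → ¬ M ∣ q ^ j - 1 := by
  intro j hj hjl hd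
  have h1 := hM.prim j hj hjl
  have h2 := Nat.dvd_gcd dvd_rfl hd
  rw [h1] at h2
  have := hM.big
  have := Nat.le_of_dvd one_pos h2
  omega

theorem exists_A2 {m a e M N' : ℕ} (hm : a + e = m) (h5 : 3 ≤ m) (ha : a ≠ 0) (he : e ≠ 0) (hea : e < a)
    (hM : Num (Fintype.card F) (2 * m) (2 * a) M) (hN : N' ∣ Fintype.card F ^ e + 1)
    (hN1 : ∀ j, 1 ≤ j → j < 2 * e → ¬ N' / N'.gcd 2 ∣ Fintype.card F ^ j - 1) :
    ∃ A : GL (Fin m ⊕ Fin m) F, A ∈ omegaGL ⇑(plusForm m F) ∧ (∃ i, NumEl a (A ^ i)) ∧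
      Dims A {0, 2 * e, 2 * a, 2 * m} := by
  have hq : 2 ≤ Fintype.card F := Fintype.one_lt_card
  have hMd := num_dvd (by omega) hM
  have hMo := num_odd hq (by omega) hM
  obtain ⟨L, _, _, _, Q, u, s1, s2, s3, s4, s5⟩ := exists_negN (F := F) ha hMd
  obtain ⟨L', _, _, _, Q', w, t1, t2, t3, t4, t5⟩ := exists_negN (F := F) he hN
  have hfL : FiniteDimensional F L := Module.Finite.of_finite
  have hfL' : FiniteDimensional F L' := Module.Finite.of_finite
  have hs := s1.prod t1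
  rw [hm, show (-1 : ℤ) * -1 = 1 by norm_num] at hs
  have hM1 : M ≠ 1 := by
    have := hM.big
    omega
  set N := N' / N'.gcd 2 with hNdef
  have t3' : orderOf (w ^ 2) = N := by rw [orderOf_pow' w two_ne_zero, t3]
  have hNN : N ∣ N' := Nat.div_dvd_of_dvd (Nat.gcd_dvd_left _ _)
  have hc : M.Coprime N := by
    have h1 := hM.prim (2 * e) (by omega) (by omega)
    refine Nat.Coprime.coprime_dvd_right ((hNN.trans hN).trans ?_) h1
    have h2 : Fintype.card F ^ (2 * e) - 1 = (Fintype.card F ^ e + 1) * (Fintype.card F ^ e - 1) := by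
      have := Nat.sq_sub_sq (Fintype.card F ^ e) 1
      rw [one_pow, ← pow_mul, mul_comm e 2] at this
      exact this
    rw [h2]
    exact dvd_mul_right _ _
  have hN0 : N' ≠ 0 := by
    rintro rfl
    rw [zero_dvd_iff] at hN
    omega
  obtain ⟨c, hc2⟩ := hMo
  have hu1 : u ^ (c + 1) * u ^ (c + 1) = u := by
    rw [← pow_add, show c + 1 + (c + 1) = (2 * c + 1) + 1 by ring, pow_succ, ← hc2, ← s3, pow_orderOf_eq_one, one_mul]
  have hpow5 : ∀ n : ℕ, ∀ v, Q (u ^ n * v) = Q v := by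
    intro n
    induction n with
    | zero => intro v; rw [pow_zero, one_mul]
    | succ n ih => intro v; rw [pow_succ, mul_assoc, ih, s5]
  have hM0 : M ≠ 0 := by omega
  have e1 : (LinearMap.mulLeft F (u ^ (c + 1)) : Module.End F L) ^ M = 1 := by
    rw [mulLeft_pow, mulLeft_eq_one, ← pow_mul, mul_comm, pow_mul, ← s3, pow_orderOf_eq_one, one_pow]
  have e2 : (LinearMap.mulLeft F w : Module.End F L') ^ N' = 1 := by
    rw [mulLeft_pow, mulLeft_eq_one, ← t3, pow_orderOf_eq_one]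
  obtain ⟨A, hA, hsim⟩ := exists_sim_sq (sg_plus (F := F) m) (by rw [card_ix]; omega) hs
    (s := (LinearMap.mulLeft F (u ^ (c + 1))).prodMap (LinearMap.mulLeft F w)) (M := M * N')
    (by
      intro v
      rw [prodForm_apply, prodForm_apply]
      change Q (u ^ (c + 1) * v.1) + Q' (w * v.2) = _
      rw [hpow5, t5])
    (Nat.mul_ne_zero hM0 hN0)
    (by
      rw [pair_pow, pow_mul, e1, one_pow, mul_comm, pow_mul, e2, one_pow]
      rfl)
  have hsq : ((LinearMap.mulLeft F (u ^ (c + 1)) : Module.End F L).prodMap (LinearMap.mulLeft F w : Module.End F L')) *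
      ((LinearMap.mulLeft F (u ^ (c + 1)) : Module.End F L).prodMap (LinearMap.mulLeft F w : Module.End F L')) =
      (LinearMap.mulLeft F u : Module.End F L).prodMap (LinearMap.mulLeft F (w ^ 2) : Module.End F L') := by
    rw [← pow_two, pair_pow, mulLeft_pow, mulLeft_pow, pow_two (u ^ (c + 1)), hu1]
  rw [hsq] at hsim
  have p1 : (LinearMap.mulLeft F u : Module.End F L) ^ M = 1 := by
    rw [mulLeft_pow, mulLeft_eq_one, ← s3, pow_orderOf_eq_one]
  have p2 : (LinearMap.mulLeft F (w ^ 2) : Module.End F L') ^ N = 1 := by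
    rw [mulLeft_pow, mulLeft_eq_one, ← t3', pow_orderOf_eq_one]
  refine ⟨A, hA, ?_, ?_⟩
  · obtain ⟨j, hj1, hj2⟩ := exists_pow_left p1 p2 hc
    refine ⟨j, numEl_of (V := L') (by omega) (by rw [card_ix]; exact hM) s3 s2 ?_⟩
    have h1 := hsim.pow j
    rw [pair_pow, hj1, hj2] at h1
    exact h1
  · apply hsim.dims
    intro W hW
    exact dims_pair s2 t2 hm s3 t3' s4 (pow_ne_zero 2 t4) hM1 hc (num_not_dvd hM) hN1 hW

end Cfsg.Agent.H604.Spr
end

-- part: H604/Spr/Plus
section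
/-!
# S3938: the groups `PΩ⁺_{2m}(q)`, `m ≥ 5` (helper604)

`spr_plus' ` : `Spr (POmega F (quadFormPlus m F))`, `m ≥ 5`, except `q = 2`, `m ≤ 8` and `q = 3`, `m = 5` (the overgroup
theorem S5948 is the hypothesis `hP`).
-/

set_option autoImplicit false
set_option linter.unusedSectionVars false

namespace Cfsg.Agent.H604.Spr

open Module Cfsg Cfsg.Geo
open Cfsg.Agent.LieClassical.OrthCore Cfsg.Agent.LieClassical.OrthForms
open Cfsg.Agent.LieClassical.OrthTrans (Good)
open Cfsg.Agent.H383.Cov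
open Cfsg.Agent.H278.Cov (Red Ext Num)
open Cfsg.Agent.H424.Spr (Spr)
open Cfsg.Agent.H659.CovCore (S5948Stmt)
open Cfsg.Agent.H689 (Ppd exists_ppd)
open scoped MatrixGroups Matrix

variable {F : Type} [Field F] [Fintype F]

theorem good_plusForm {m : ℕ} (hm : 3 ≤ m) : Good (plusForm m F) := by
  rw [AutOrth.Main.plusForm_eq]
  exact AutOrth.Main.good_plus hm

theorem spr_of_el (hP : S5948Stmt.{0}) {m a e i : ℕ} (hm : a + e = m) (hea : e < a) (h5 : 5 ≤ m) (ha : 4 ≤ a)
    (he : 1 ≤ e) (hg : ∀ r : ℕ, r.Prime → r ∣ Nat.gcd (2 * m) (2 * a) → r = 2) {A : GL (Fin m ⊕ Fin m) F}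
    (hA : A ∈ omegaGL ⇑(plusForm m F)) (hAi : NumEl a (A ^ i)) (dA : Dims A {0, 2 * e, 2 * a, 2 * m}) :
    Spr (POmega F (quadFormPlus m F)) := by
  have hne : Nonempty (Fin m ⊕ Fin m) := ⟨Sum.inl ⟨0, by omega⟩⟩
  have hQ : IsNondegenerateQuadraticForm ⇑(plusForm m F) := isNondeg (sg_plus m).nondeg
  have og : OgO ⇑(plusForm m F) := fun k H hle hne g hg hn =>
    Cfsg.Agent.H558.Cov.og_o hP hQ hle hne hg hn
  have key : ∀ α : MulAut (POmega F (quadFormPlus m F)), AutOrth.Main.Ind (quadFormPlus m F) α → α ≠ 1 →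
      ∃ x, ∀ K : Subgroup (POmega F (quadFormPlus m F)), x ∈ K → (∀ k ∈ K, α k ∈ K) → K = ⊤ := by
    rw [← coe_plusForm]
    intro α hα hα1
    refine spr_core (good_plusForm (by omega)) og hA (a := a) (e := e) (by rw [card_ix]; omega) he hea ha
      (by rw [card_ix]; exact hg) hAi (by rw [card_ix]; exact dA) hα hα1
  intro α hα1
  exact key α (AutOrth.Main.all_plus h5 α) hα1

theorem core_plus (hP : S5948Stmt.{0}) {m a e N : ℕ} (hm : a + e = m) (hea : e < a) (h5 : 5 ≤ m) (ha : 4 ≤ a)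
    (he : 1 ≤ e) (hg : ∀ r : ℕ, r.Prime → r ∣ Nat.gcd (2 * m) (2 * a) → r = 2)
    (hM : ∃ M, Num (Fintype.card F) (2 * m) (2 * a) M) (hN : N ∣ Fintype.card F ^ e + 1)
    (hN1 : ∀ j, 1 ≤ j → j < 2 * e → ¬ N / N.gcd 2 ∣ Fintype.card F ^ j - 1) :
    Spr (POmega F (quadFormPlus m F)) := by
  obtain ⟨M, hM⟩ := hM
  obtain ⟨A, hA, ⟨i, hAi⟩, dA⟩ := exists_A2 hm (by omega) (by omega) (by omega) hea hM hN hN1
  exact spr_of_el hP hm hea h5 ha he hg hA hAi dA

/-- **S3938, plus type.** -/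
theorem spr_plus' (hP : S5948Stmt.{0}) {m : ℕ} (hm : 5 ≤ m) (h2 : Fintype.card F = 2 → 9 ≤ m)
    (h3 : ¬ (Fintype.card F = 3 ∧ m = 5)) : Spr (POmega F (quadFormPlus m F)) := by
  have hq : 2 ≤ Fintype.card F := Fintype.one_lt_card
  have hpp : IsPrimePow (Fintype.card F) := Fintype.isPrimePow_card_of_field
  by_cases h11 : Fintype.card F = 2 ∧ m = 11
  · obtain ⟨hq2, rfl⟩ := h11
    refine core_plus hP (a := 7) (e := 4) (N := 17) rfl (by norm_num) (by norm_num) (by norm_num) (by norm_num) ?_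
      (H906.Cov.exists_num hpp (by norm_num) (by norm_num) (by norm_num) (by norm_num) (by norm_num))
      (by rw [hq2]; norm_num) ?_
    · intro r hr h
      exact (Nat.prime_dvd_prime_iff_eq hr Nat.prime_two).1 (by simpa using h)
    · intro j hj hj6
      rw [hq2]
      interval_cases j <;> decide
  by_cases h12 : Fintype.card F = 2 ∧ m = 12
  · obtain ⟨hq2, rfl⟩ := h12
    refine core_plus hP (a := 8) (e := 4) (N := 17) rfl (by norm_num) (by norm_num) (by norm_num) (by norm_num) ?_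
      (H906.Cov.exists_num hpp (by norm_num) (by norm_num) (by norm_num) (by norm_num) (by norm_num))
      (by rw [hq2]; norm_num) ?_
    · intro r hr h
      exact two_of_dvd (k := 3) hr (a := 8) (e := 4) rfl (by norm_num) h
    · intro j hj hj6
      rw [hq2]
      interval_cases j <;> decide
  by_cases hm5 : m = 5
  · subst hm5
    have hq4 : 4 ≤ Fintype.card F := by
      have h4 : Fintype.card F ≠ 2 := fun h => by have := h2 h; omega
      have h5 : Fintype.card F ≠ 3 := fun h => h3 ⟨h, rfl⟩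
      omega
    refine core_plus hP (a := 4) (e := 1) (N := Fintype.card F + 1) rfl (by norm_num) (by norm_num) (by norm_num)
      (by norm_num) ?_
      (H906.Cov.exists_num hpp (by norm_num) (by norm_num) (by norm_num) (fun h => by omega) (by norm_num))
      (by rw [pow_one]) ?_
    · intro r hr h
      exact two_of_dvd (k := 1) hr (a := 4) (e := 1) rfl (by norm_num) h
    · intro j hj hj2
      obtain rfl : j = 1 := by omega
      rw [pow_one]
      intro hd
      have h6 : (Fintype.card F + 1) / (Fintype.card F + 1).gcd 2 ∣ Fintype.card F + 1 :=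
        Nat.div_dvd_of_dvd (Nat.gcd_dvd_left _ _)
      have h7 := Nat.dvd_sub h6 hd
      have h8 : Fintype.card F + 1 - (Fintype.card F - 1) = 2 := by omega
      rw [h8] at h7
      have h9 := Nat.le_of_dvd (by norm_num) h7
      have h10 : (Fintype.card F + 1).gcd 2 ≤ 2 := Nat.gcd_le_right _ (by norm_num)
      have h11 := Nat.div_mul_cancel (Nat.gcd_dvd_left (Fintype.card F + 1) 2)
      nlinarith only [hq4, h9, h10, h11]
  -- the general case
  obtain ⟨l, hl⟩ := exists_ppd (q := Fintype.card F) (k := 4) hq (by norm_num) (by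
    rintro ⟨-, h⟩
    exact absurd h (by decide))
  have hlo : Odd l := ppd_odd hl (by norm_num)
  have hld : l ∣ Fintype.card F ^ 2 + 1 := by
    have h1 := (hl.iff 4).2 dvd_rfl
    have h3 : Fintype.card F ^ 4 - 1 = (Fintype.card F ^ 2 + 1) * (Fintype.card F ^ 2 - 1) := by
      have := Nat.sq_sub_sq (Fintype.card F ^ 2) 1
      rw [one_pow, ← pow_mul] at this
      exact this
    rw [h3] at h1
    refine (hl.prime.dvd_mul.1 h1).resolve_right fun h4 => ?_
    exact absurd ((hl.iff 2).1 h4) (by decide)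
  refine core_plus hP (a := m - 2) (e := 2) (N := l) (by omega) (by omega) hm (by omega) (by norm_num) ?_
    (H906.Cov.exists_num hpp (by omega) (by omega) (by omega) (fun h => by have := h2 h; omega) (fun h => by omega))
    hld ?_
  · intro r hr h
    exact two_of_dvd (k := 2) hr (a := m - 2) (e := 2) (by omega) (by norm_num) h
  · intro j hj hj4 hd
    have h1 : l.gcd 2 = 1 := Nat.coprime_two_right.2 hlo
    rw [h1, Nat.div_one] at hd
    have := Nat.le_of_dvd hj ((hl.iff j).1 hd)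
    omega

end Cfsg.Agent.H604.Spr
end

private theorem dce_304aa08a8e20 : _root_.True := by
  try have : _root_.True := by simp only [_root_.Cfsg.Agent.H604.Spr.Bad.congr_simp]
  exact _root_.True.intro
end

-- part: H424/Spr/SU
section
prune_inst 0x10000000000000000010000000000000
set_option linter.all false
open scoped Cfsg.Agent.FastGrp

/-!
# 3/2-generation, row `PSU_n(q)`, `n ≥ 10` (helper424, S3938)
-/

set_option autoImplicit false

namespace Cfsg.Agent.H424.SprSU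

open Cfsg Cfsg.Geo Module Matrix
open Cfsg.Agent.LieClassical.HermBasic Cfsg.Agent.LieClassical.HermSiegel
open Cfsg.Agent.ClassicalGeometry.HermOrtho Cfsg.Agent.GpUn
open Cfsg.Agent.H278.Cov (Num Red Ext)
open Cfsg.Agent.H809.SelfCent (toG toG_injective toG_val)
open Cfsg.Agent.H424.Spr

variable {F : Type} [Field F] [Fintype F] {n q : ℕ}

/-- the stabiliser of a subspace in `SU_n(q)` -/
def st (U : Submodule F (Fin n → F)) : Subgroup (SU n F q) where
  carrier := {g | ∀ u ∈ U, act g u ∈ U}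
  one_mem' := fun u hu => by rw [act_one]; exact hu
  mul_mem' := fun {g h} hg hh u hu => by rw [act_mul]; exact hg _ (hh u hu)
  inv_mem' := fun {g} hg => act_mem_iff hg

theorem st_perp {U : Submodule F (Fin n → F)} : (st U : Subgroup (SU n F q)) ≤ st (hermPerp q (U : Set (Fin n → F))) := by
  intro g hg w hw
  exact act_perp (act_mem_iff hg) hw

/-- the overgroup theorem -/
theorem overgp (hP : Cfsg.Agent.H659.CovCore.S5948Stmt.{0}) (hF : Fintype.card F = q ^ 2) {k : ℕ} {s : SU n F q}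
    (hnum : Num (q ^ 2) n k (orderOf s)) {K : Subgroup (SU n F q)} (hK : K ≠ ⊤) (hs : s ∈ K) :
    (∃ W : Submodule F (Fin n → F), W ≠ ⊥ ∧ W ≠ ⊤ ∧ K ≤ st W) ∨
      ∃ (r : ℕ) (E : Subalgebra F (Matrix (Fin n) (Fin n) F)), r.Prime ∧ r ∣ Nat.gcd n k ∧ IsFieldSubalgebra r E ∧
        K.map (toG n F q) ≤ subalgebraNormalizer E := by
  set H := K.map (toG n F q) with hH
  have hgH : toG n F q s ∈ H := ⟨_, hs, rfl⟩
  have hfix : FixesForm (matrixSet H) (hermForm n F q) := by
    rintro _ ⟨_, ⟨z, hz, rfl⟩, rfl⟩ u v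
    exact z.2 u v
  have hdet : ∀ z ∈ H, Matrix.GeneralLinearGroup.det z = 1 := by
    rintro _ ⟨z, hz, rfl⟩
    apply Units.ext
    exact Cfsg.Agent.H674.SUTools.det_cm z
  have hne : ∃ z : GL (Fin n) F, FixesForm {(z : Matrix (Fin n) (Fin n) F)} (hermForm n F q) ∧
      Matrix.GeneralLinearGroup.det z = 1 ∧ z ∉ H := by
    obtain ⟨z, hz⟩ : ∃ z, z ∉ K := by
      by_contra hc
      push Not at hc
      exact hK (Subgroup.eq_top_iff' K |>.2 hc)
    refine ⟨toG n F q z, ?_, ?_, ?_⟩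
    · intro w hw u v
      rw [Set.mem_singleton_iff.1 hw]
      exact z.2 u v
    · apply Units.ext
      exact Cfsg.Agent.H674.SUTools.det_cm z
    · rintro ⟨w, hw, hwz⟩
      rw [toG_injective hwz] at hw
      exact hz hw
  have hos : orderOf (toG n F q s) = orderOf s := orderOf_injective _ toG_injective s
  have hog := Cfsg.Agent.H89.Cov.og_su hP hF (Cfsg.Agent.H981.Cov.isUnitaryForm_herm hF) hfix hdet hne hgH (k := k)
    (by rw [hos, Fintype.card_fin, hF]; exact hnum)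
  rcases hog with ⟨W, hW0, hW1, hW⟩ | ⟨r, E, hr, hrd, hEf, hEK⟩
  · left
    refine ⟨W, hW0, hW1, fun z hz w hw => ?_⟩
    exact ((hW ⟨z, hz, rfl⟩) w).1 hw
  · right
    rw [Fintype.card_fin] at hrd
    exact ⟨r, E, hr, hrd, hEf, hEK⟩

section sub

variable {l k : ℕ} {y : SU n F q}

/-- an invariant subspace or its orthogonal space lies in the fixed space -/
theorem le_or_perp_le (hF : Fintype.card F = q ^ 2) (hl : l.Prime) (hlF : (l : F) ≠ 0) (hy : y ^ l = 1) (hy1 : y ≠ 1)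
    (hk : orderOf ((Nat.card F : ℕ) : ZMod l) = k) (hk0 : k ≠ 0) (hn : n < 2 * k) {W : Submodule F (Fin n → F)}
    (hW : ∀ w ∈ W, act y w ∈ W) : W ≤ fx y ∨ hermPerp q (W : Set (Fin n → F)) ≤ fx y := by
  have hND := Cfsg.Agent.H779.DP.nd_fx hF hlF hy
  by_cases h0 : (W ⊓ Cfsg.Agent.H779.DP.Wx y : Submodule F (Fin n → F)) = ⊥
  · left
    intro w hw
    obtain ⟨a, ha, b, hb, hab⟩ := exists_add_perp hF (fx y) hND w
    have h1 : act y w - w ∈ W := W.sub_mem (hW w hw) hw
    have h2 : act y w - w = act y b - b := by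
      have ha' : act y a = a := ha
      rw [hab, act_add, ha']
      abel
    have h3 : act y b - b ∈ Cfsg.Agent.H779.DP.Wx y :=
      Submodule.sub_mem _ (Cfsg.Agent.H779.DP.act_Wx rfl hb) hb
    have h4 : act y w - w ∈ (W ⊓ Cfsg.Agent.H779.DP.Wx y : Submodule F (Fin n → F)) := ⟨h1, by rw [h2]; exact h3⟩
    rw [h0, Submodule.mem_bot] at h4
    exact sub_eq_zero.1 h4
  · right
    have h1 : (W ⊓ Cfsg.Agent.H779.DP.Wx y : Submodule F (Fin n → F)) = Cfsg.Agent.H779.DP.Wx y :=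
      Cfsg.Agent.H779.DP.eq_Wx hF hl hlF hy hy1 hk hk0 hn inf_le_right
        (fun u hu => ⟨hW u hu.1, Cfsg.Agent.H779.DP.act_Wx rfl hu.2⟩) h0
    have h2 : Cfsg.Agent.H779.DP.Wx y ≤ W := by rw [← h1]; exact inf_le_left
    intro v hv
    exact mem_perp_perp hF hND fun w hw => hv w (h2 hw)

/-- `n ≤ dim W + dim W^⊥` (copied from `H783.UniTrans`) -/
theorem le_finrank_perp (hF : Fintype.card F = q ^ 2) (W : Submodule F (Fin n → F)) :
    n ≤ finrank F W + finrank F (hermPerp q (W : Set (Fin n → F))) := by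
  let b := finBasis F W
  let Φ : (Fin n → F) →ₗ[F] (Fin (finrank F W) → F) := LinearMap.pi fun i => hermLeft q (b i : Fin n → F)
  have h1 : LinearMap.ker Φ ≤ hermPerp q (W : Set (Fin n → F)) := by
    intro v hv w hw
    rw [LinearMap.mem_ker] at hv
    have h2 : ∀ i, hermForm n F q v (b i : Fin n → F) = 0 := fun i => congrFun hv i
    have h3 : w = ∑ i, b.repr ⟨w, hw⟩ i • (b i : Fin n → F) := by
      have h4 := congrArg (Submodule.subtype W) (b.sum_repr ⟨w, hw⟩)
      rw [map_sum] at h4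
      exact h4.symm
    rw [h3, herm_sum_right hF]
    refine Finset.sum_eq_zero fun i _ => ?_
    rw [herm_smul_right, h2, mul_zero]
  have h2 := LinearMap.finrank_range_add_finrank_ker Φ
  have h3 : finrank F (LinearMap.range Φ) ≤ finrank F W := by
    refine (Submodule.finrank_le _).trans ?_
    rw [finrank_fin_fun]
  have h4 := Submodule.finrank_mono h1
  rw [finrank_fin_fun] at h2
  omega

theorem perp_ne_bot' (hF : Fintype.card F = q ^ 2) {W : Submodule F (Fin n → F)} (hW : W ≠ ⊤) :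
    hermPerp q (W : Set (Fin n → F)) ≠ ⊥ := by
  intro h
  have h1 := le_finrank_perp hF W
  rw [h, finrank_bot] at h1
  have h2 := Submodule.finrank_lt hW
  rw [finrank_fin_fun] at h2
  omega

/-- a subgroup stabilising a proper non-zero subspace and containing `y` stabilises a non-zero subspace of the fixed
space of `y` -/
theorem red_to_fix (hF : Fintype.card F = q ^ 2) (hl : l.Prime) (hlF : (l : F) ≠ 0) (hy : y ^ l = 1) (hy1 : y ≠ 1)
    (hk : orderOf ((Nat.card F : ℕ) : ZMod l) = k) (hk0 : k ≠ 0) (hn : n < 2 * k) {K : Subgroup (SU n F q)}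
    (hyK : y ∈ K) {W : Submodule F (Fin n → F)} (hW0 : W ≠ ⊥) (hW1 : W ≠ ⊤) (hW : K ≤ st W) :
    ∃ U : Submodule F (Fin n → F), U ≠ ⊥ ∧ U ≤ fx y ∧ K ≤ st U := by
  rcases le_or_perp_le hF hl hlF hy hy1 hk hk0 hn (W := W) (hW hyK) with h | h
  · exact ⟨W, hW0, h, hW⟩
  · exact ⟨_, perp_ne_bot' hF hW1, h, hW.trans st_perp⟩

end sub

theorem ne_zero_of_ord {l k : ℕ} (hl : l.Prime) (hk0 : k ≠ 0) (hk : orderOf ((Nat.card F : ℕ) : ZMod l) = k) :
    (l : F) ≠ 0 := by
  intro h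
  have := Fact.mk hl
  have hc : CharP F l := by
    have h1 := CharP.exists F
    obtain ⟨p, hp⟩ := h1
    have h2 : p ∣ l := (CharP.cast_eq_zero_iff F p l).1 h
    have hpp : p.Prime := CharP.char_is_prime F p
    rw [(Nat.prime_dvd_prime_iff_eq hpp hl).1 h2] at hp
    exact hp
  have h1 : ((Nat.card F : ℕ) : F) = 0 := by
    rw [Nat.card_eq_fintype_card]
    exact FiniteField.cast_card_eq_zero F
  have h2 : l ∣ Nat.card F := (CharP.cast_eq_zero_iff F l _).1 h1
  have h3 : ((Nat.card F : ℕ) : ZMod l) = 0 := (ZMod.natCast_eq_zero_iff _ _).2 h2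
  rw [h3, orderOf_zero] at hk
  exact hk0 hk.symm

/-- the kernel of the projection to `PSU` stabilises all subspaces -/
theorem ker_le_st (hF : Fintype.card F = q ^ 2) (hn : 3 ≤ n) (U : Submodule F (Fin n → F)) :
    (Cfsg.Agent.H674.SUBlock.pr : SU n F q →* PSU n F q).ker ≤ st U := by
  intro z hz
  rw [MonoidHom.mem_ker, Cfsg.Agent.H674.SUBlock.pr_eq_one_iff] at hz
  obtain ⟨c, -, -, hc⟩ := Cfsg.Agent.ClassicalGeometry.PSUAutBasic.exists_scalar_of_mem_center hF hn hz
  intro u hu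
  rw [hc]
  exact U.smul_mem c hu

/-- `st U` is proper -/
theorem st_ne_top {D : ℕ → Prop} {z : SU n F q} (hz : Cfsg.Agent.H981.Cov.IsD z D) {U : Submodule F (Fin n → F)}
    (hU : ¬ D (finrank F U)) : (st U : Subgroup (SU n F q)) ≠ ⊤ := by
  intro h
  apply hU
  apply hz
  intro w hw
  have h1 : z ∈ (st U : Subgroup (SU n F q)) := by rw [h]; trivial
  exact h1 w hw

open Cfsg.Agent.H981.Cov in
/-- an element without invariant lines, `n` even -/
theorem exists_noline (hF : Fintype.card F = q ^ 2) (hn : Even n) (hn10 : 10 ≤ n) :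
    ∃ z : SU n F q, IsD z (fun t => ∃ i j, t = (n - 5) * i + 5 * j) := by
  obtain ⟨t, ht⟩ := hn
  have hodd : Odd (n - 5) := ⟨t - 3, by omega⟩
  obtain ⟨l₂, B₂, hl₂, hu₂⟩ := exists_odd_block hF (k := 5) (by decide) (by norm_num) (by omega)
  rcases eq_or_lt_of_le hn10 with h | h
  · obtain ⟨z, hz⟩ := exists_double hF (n := n) (k := 5) (by omega) B₂ hu₂
    refine ⟨z, fun W hW => ?_⟩
    obtain ⟨i, hi⟩ := hz W hW
    exact ⟨0, i, by rw [hi]; ring⟩
  · obtain ⟨l₁, B₁, hl₁, hu₁⟩ := exists_odd_block hF (k := n - 5) hodd (by omega) (by omega)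
    obtain ⟨z, hz, -, -⟩ := exists_pair (n := n) hF (d := n - 5) (e := 5) (by omega) hu₁ hu₂
      (coprime_of_ne B₁.pr B₂.pr (ne_of_prim hl₁ hl₂ (by omega))) dvd_rfl dvd_rfl B₁ B₂
    refine ⟨z, fun W hW => ?_⟩
    obtain ⟨i, j, hi, -⟩ := hz W hW
    exact ⟨i, j, hi⟩

open Cfsg.Agent.H981.Cov in
/-- `n` even, `n ≥ 10`, `(n, q) ≠ (10, 2)` : elements `[n - 1] + [1]` -/
theorem row_even (hP : Cfsg.Agent.H659.CovCore.S5948Stmt.{0}) (hF : Fintype.card F = q ^ 2) (hn : Even n)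
    (hn10 : 10 ≤ n) (hex : ¬ (n = 10 ∧ q = 2)) [IsSimpleGroup (PSU n F q)] [Finite (PSU n F q)]
    (hna : ∃ x y : PSU n F q, x * y ≠ y * x) : Spr (PSU n F q) := by
  have hqp := isPrimePow_q hF
  have hn' := hn
  obtain ⟨t, ht⟩ := hn
  have hodd : Odd (n - 1) := ⟨t - 1, by omega⟩
  obtain ⟨m, hm, num⟩ := Cfsg.Agent.H906.Cov.exists_num_u (n := n) (k := n - 1) hqp (by omega) (by omega) (by omega) hodd (by omega)
  obtain ⟨s, hs, -⟩ := exists_big (n := n) hF (c := 1) (k := n - 1) (by omega) hodd (by omega) (by omega) hm num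
  rw [pow_one] at hs
  obtain ⟨l, hl, hlm, -⟩ := num.sub
  have hk : orderOf ((Nat.card F : ℕ) : ZMod l) = n - 1 := num_ord hF (by omega) num hl hlm
  have hm0 : m ≠ 0 := by rw [← hs]; exact (orderOf_pos s).ne'
  set y := s ^ (m / l) with hy
  have hyo : orderOf y = l := by
    rw [hy, ← hs]
    exact orderOf_pow_orderOf_div (by rw [hs]; exact hm0) (by rw [hs]; exact hlm)
  have hyl : y ^ l = 1 := by rw [← hyo, pow_orderOf_eq_one]
  have hy1 : y ≠ 1 := fun h => by rw [h, orderOf_one] at hyo; exact hl.one_lt.ne hyo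
  have hlF := ne_zero_of_ord hl (by omega) hk
  have hfin := Cfsg.Agent.H779.DP.finrank_fx hl hyl hy1 hk (by omega) (by omega)
  have hd1 : finrank F (fx y) = 1 := by omega
  obtain ⟨z, hz⟩ := exists_noline hF hn' hn10
  refine spr_of_one_up hna (Cfsg.Agent.H674.SUBlock.pr : SU n F q →* PSU n F q)
    Cfsg.Agent.H674.SUBlock.pr_surjective (s := s) (M := st (fx y)) (ker_le_st hF (by omega) _) ?_ ?_
  · apply st_ne_top hz
    rw [hd1]
    rintro ⟨i, j, hij⟩
    rcases Nat.eq_zero_or_pos i with h | h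
    · subst h
      omega
    · have : (n - 5) * 1 ≤ (n - 5) * i := Nat.mul_le_mul_left _ h
      omega
  · intro K _ hsK hK
    have hyK : y ∈ K := K.pow_mem hsK _
    rcases overgp hP hF (s := s) (k := n - 1) (by rw [hs]; exact num) hK hsK with ⟨W, hW0, hW1, hW⟩ | ⟨r, E, hr, hrd, -, -⟩
    · obtain ⟨U, hU0, hU, hKU⟩ := red_to_fix hF hl hlF hyl hy1 hk (by omega) (by omega) hyK hW0 hW1 hW
      have : U = fx y := by
        apply Submodule.eq_of_le_of_finrank_le hU
        rw [hd1]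
        exact Nat.one_le_iff_ne_zero.2 fun h => hU0 (Submodule.finrank_eq_zero.1 h)
      rwa [this] at hKU
    · exfalso
      have h1 := dvd_sub_of_gcd hrd
      rw [show n - (n - 1) = 1 by omega] at h1
      exact hr.one_lt.ne' (Nat.dvd_one.1 h1)

end Cfsg.Agent.H424.SprSU
end
end
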